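import Cfsg.Agent.Lib.Helper3.U62.L1D
import Cfsg.Agent.Lib.Helper3.U62.Net

set_option autoImplicit false
set_option maxRecDepth 100000

namespace Cfsg.Agent.Lib.Helper3.U62.L1

open Cfsg.Agent.Lib.Helper11 Cfsg.Agent.Lib.Helper3

set_option maxHeartbeats 0

noncomputable def fc (i : ℕ) : ℕ := (fc0_0 i)
noncomputable def sc (i : ℕ) : ℕ := (sc0_0 i)
noncomputable def nc (i : ℕ) : ℕ := (nc0_0 i)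
noncomputable def cc (i : ℕ) : ℕ := (Bool.rec (cc0_0 i) (cc0_1 i) (Nat.ble 16 i))

def isH (l : ℕ) : Bool := decide (l ∈ [4, 6])
def gens : List ℕ := [1, 2]
def hl : List ℕ := [4, 6]
def dl : List (List ℕ × ℕ) := [([2], 3), ([2, 1, 2, 2, 2, 1], 5), ([5], 4), ([3, 3, 1, 2, 2, 1, 2, 2, 1, 3, 3, 3], 7), ([7], 6), ([5, 6, 6, 6, 4], 8), ([4, 7, 4, 6, 5, 7, 4, 4], 10), ([10], 9), ([9, 8, 9, 9, 8, 9, 9, 9, 9], 12), ([12], 11), ([8, 9, 8, 9, 8, 9, 9, 8, 9, 8, 9], 14), ([14], 13), ([14, 11, 13, 11, 11], 15), ([14, 12, 13, 11, 13, 11], 16)]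
def BR : List (List ℕ) := [[], [2, 1, 2, 2, 2, 1, 5], [3, 3, 1, 2, 2, 1, 2, 2, 1, 3, 3, 3, 7], [5, 6, 6, 6, 4, 8], [4, 7, 4, 6, 5, 7, 4, 4, 10], [9, 8, 9, 9, 8, 9, 9, 9, 9, 12], [8, 9, 8, 9, 8, 9, 9, 8, 9, 8, 9, 14], [14, 11, 13, 11, 11, 15], [14, 12, 13, 11, 13, 11, 16], [2, 2, 2, 2, 2, 2, 2], [3, 3, 3, 3, 3, 3, 3], [1, 2, 1, 2, 1, 2, 1, 2, 1, 2, 1, 2, 1, 2, 1, 2, 1, 2, 1, 2, 1, 2], [1, 3, 1, 3, 1, 3, 1, 3, 1, 3, 1, 3, 1, 3, 1, 3, 1, 3, 1, 3, 1, 3], [1, 2, 1, 3, 1, 2, 1, 3], [3, 3, 3, 1, 2, 2, 2, 15, 16, 13, 11, 11, 4, 4, 6, 5, 6, 4], [1, 2, 1, 2, 2, 1, 3, 3, 1, 3, 1, 15, 16, 15, 14, 12, 14, 8, 10, 8, 9, 9, 8, 10, 10, 8, 7, 5, 5, 6, 4, 4, 6], [3, 1, 3, 1, 3, 3, 1, 2, 2, 1, 2, 1, 2, 15, 16, 12, 13, 4, 4, 6,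 4, 7, 4], [1, 2, 1, 3, 3, 3, 1, 2, 2, 2, 1, 3, 1, 16, 15, 13, 11, 11, 8, 9, 9, 9, 8, 9, 8, 4, 4, 4, 4, 6, 5, 6], [1, 3, 1, 2, 2, 2, 1, 3, 3, 3, 1, 2, 1, 12, 9, 8, 9, 9, 9, 9, 8, 7, 7, 4, 7], [1, 3, 1, 3, 3, 3, 1, 2, 2, 2, 1, 2, 1, 16, 15, 13, 10, 10, 8, 10, 8, 9], [1, 2, 2, 1, 2, 2, 2, 1, 3, 3, 3, 1, 3, 3, 1, 15, 16, 15, 11, 11, 13, 8, 10, 8, 9, 9, 8, 10, 10, 8, 4, 4, 4, 7, 5], [1, 3, 3, 1, 2, 2, 2, 1, 3, 3, 3, 1, 2, 2, 1, 16, 15, 13, 11, 11, 8, 9, 9, 9, 8, 9, 8, 4, 4, 4, 4, 6, 5, 6], [3, 1, 3, 1, 3, 3, 3, 1, 2, 2, 2, 1, 2, 1, 2, 10, 10, 8, 9, 9], [2, 2, 1, 2, 1, 2, 2, 1, 3, 3, 1, 3, 1, 3, 3, 15, 16, 12, 14, 11, 11, 8, 10, 8, 10, 4, 6, 5, 5, 5], [3, 1, 3, 1, 2, 2, 2, 1, 3, 3, 3, 1, 2, 1, 2, 15, 13, 12, 13,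 9, 8, 9, 9, 9, 9, 8, 9, 6, 4, 7, 4, 4, 4], [3, 1, 3, 3, 1, 2, 2, 1, 3, 3, 1, 2, 2, 1, 2, 15, 16, 13, 11, 11, 4, 4, 6, 5, 6, 4], [1, 2, 1, 2, 1, 2, 2, 1, 3, 3, 1, 3, 1, 3, 1, 16, 15, 11, 14, 8, 10, 8, 9, 9, 8, 10, 6, 6, 5, 5, 7], [1, 3, 1, 3, 3, 1, 2, 2, 1, 2, 2, 2, 1, 2, 2, 6, 4], [1, 2, 2, 1, 3, 3, 3, 1, 2, 2, 2, 1, 3, 3, 1, 12, 9, 8, 9, 9, 9, 9, 8, 7, 7, 4, 7], [1, 3, 3, 1, 3, 3, 3, 1, 2, 2, 2, 1, 2, 2, 1, 15, 16, 15, 11, 11, 13, 8, 10, 8, 9, 9, 8, 10, 10, 8, 4, 4, 4, 7, 5], [2, 2, 1, 2, 2, 2, 1, 2, 1, 2, 1, 2, 2, 2, 1, 2, 15, 11, 11, 13, 8, 10, 10, 10, 10, 7, 5, 5, 7, 4, 7], [2, 2, 1, 2, 2, 1, 2, 2, 1, 3, 3, 1, 3, 3, 1, 3, 3, 15, 16, 15, 8, 9, 8, 9, 8, 10, 10, 10, 5, 5, 5, 6, 6, 4]]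
def rt : RT := (.node 60 (.node 30 (.node 15 (.node 7 (.node 3 (.node 1 (.leaf 0 0 []) (.node 2 (.leaf 13 4 [1, 2, 1, 3, 1, 2, 1, 3]) (.leaf 13 6 [1, 3, 1, 2, 1, 3, 1, 2]))) (.node 5 (.node 4 (.leaf 1 2 [2, 2, 2, 1, 5, 2, 1]) (.leaf 2 12 [7, 3, 3, 1, 2, 2, 1, 2, 2, 1, 3, 3, 3])) (.node 6 (.leaf 1 6 [5, 2, 1, 2, 2, 2, 1]) (.leaf 9 3 [2, 2, 2, 2, 2, 2, 2])))) (.node 11 (.node 9 (.node 8 (.leaf 2 5 [1, 2, 2, 1, 3, 3, 3, 7, 3, 3, 1, 2, 2]) (.leaf 9 2 [2, 2, 2, 2, 2, 2, 2])) (.node 10 (.leaf 13 3 [3, 1, 2, 1, 3, 1, 2, 1]) (.leaf 13 5 [2, 1, 3, 1, 2, 1, 3, 1]))) (.node 13 (.node 12 (.leaf 13 7 [3, 1, 2, 1, 3, 1, 2, 1]) (.leaf 10 3 [3, 3, 3, 3, 3, 3, 3])) (.node 14 (.leaf 3 5 [8, 5, 6, 6, 6, 4]) (.leaf 4 8 [10, 4,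 7, 4, 6, 5, 7, 4, 4]))))) (.node 22 (.node 18 (.node 16 (.leaf 5 9 [12, 9, 8, 9, 9, 8, 9, 9, 9, 9]) (.node 17 (.leaf 6 11 [14, 8, 9, 8, 9, 8, 9, 9, 8, 9, 8, 9]) (.leaf 8 6 [16, 14, 12, 13, 11, 13, 11]))) (.node 20 (.node 19 (.leaf 7 5 [15, 14, 11, 13, 11, 11]) (.leaf 14 3 [1, 2, 2, 2, 15, 16, 13, 11, 11, 4, 4, 6, 5, 6, 4, 3, 3, 3])) (.node 21 (.leaf 15 5 [1, 3, 3, 1, 3, 1, 15, 16, 15, 14, 12, 14, 8, 10, 8, 9, 9, 8, 10, 10, 8, 7, 5, 5, 6, 4, 4, 6, 1, 2, 1, 2, 2]) (.leaf 16 6 [1, 2, 2, 1, 2, 1, 2, 15, 16, 12, 13, 4, 4, 6, 4, 7, 4, 3, 1, 3, 1, 3, 3])))) (.node 26 (.node 24 (.node 23 (.leaf 17 6 [1, 2, 2, 2, 1, 3, 1, 16, 15, 13, 11, 11, 8, 9, 9, 9, 8, 9, 8, 4, 4, 4, 4, 6, 5, 6, 1, 2, 1, 3, 3, 3]) (.leaf 18 6 [1,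 3, 3, 3, 1, 2, 1, 12, 9, 8, 9, 9, 9, 9, 8, 7, 7, 4, 7, 1, 3, 1, 2, 2, 2])) (.node 25 (.leaf 11 5 [2, 1, 2, 1, 2, 1, 2, 1, 2, 1, 2, 1, 2, 1, 2, 1, 2, 1, 2, 1, 2, 1]) (.leaf 19 6 [1, 2, 2, 2, 1, 2, 1, 16, 15, 13, 10, 10, 8, 10, 8, 9, 1, 3, 1, 3, 3, 3]))) (.node 28 (.node 27 (.leaf 20 7 [1, 3, 3, 3, 1, 3, 3, 1, 15, 16, 15, 11, 11, 13, 8, 10, 8, 9, 9, 8, 10, 10, 8, 4, 4, 4, 7, 5, 1, 2, 2, 1, 2, 2, 2]) (.leaf 21 7 [1, 3, 3, 3, 1, 2, 2, 1, 16, 15, 13, 11, 11, 8, 9, 9, 9, 8, 9, 8, 4, 4, 4, 4, 6, 5, 6, 1, 3, 3, 1, 2, 2, 2])) (.node 29 (.leaf 22 7 [1, 2, 2, 2, 1, 2, 1, 2, 10, 10, 8, 9, 9, 3, 1, 3, 1, 3, 3, 3]) (.leaf 23 7 [1, 3, 3, 1, 3, 1, 3, 3, 15, 16, 12, 14, 11, 11, 8, 10, 8, 10, 4, 6, 5, 5, 5, 2, 2, 1, 2, 1, 2,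 2])))))) (.node 45 (.node 37 (.node 33 (.node 31 (.leaf 24 7 [1, 3, 3, 3, 1, 2, 1, 2, 15, 13, 12, 13, 9, 8, 9, 9, 9, 9, 8, 9, 6, 4, 7, 4, 4, 4, 3, 1, 3, 1, 2, 2, 2]) (.node 32 (.leaf 25 7 [1, 3, 3, 1, 2, 2, 1, 2, 15, 16, 13, 11, 11, 4, 4, 6, 5, 6, 4, 3, 1, 3, 3, 1, 2, 2]) (.leaf 11 3 [2, 1, 2, 1, 2, 1, 2, 1, 2, 1, 2, 1, 2, 1, 2, 1, 2, 1, 2, 1, 2, 1]))) (.node 35 (.node 34 (.leaf 9 4 [2, 2, 2, 2, 2, 2, 2]) (.leaf 26 7 [1, 3, 3, 1, 3, 1, 3, 1, 16, 15, 11, 14, 8, 10, 8, 9, 9, 8, 10, 6, 6, 5, 5, 7, 1, 2, 1, 2, 1, 2, 2])) (.node 36 (.leaf 27 7 [2, 1, 2, 2, 2, 1, 2, 2, 6, 4, 1, 3, 1, 3, 3, 1, 2]) (.leaf 27 15 [6, 4, 1, 3, 1, 3, 3, 1, 2, 2, 1, 2, 2, 2, 1, 2, 2])))) (.node 41 (.node 39 (.node 38 (.leaf 27 2 [1, 3,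 3, 1, 2, 2, 1, 2, 2, 2, 1, 2, 2, 6, 4, 1, 3]) (.leaf 27 16 [4, 1, 3, 1, 3, 3, 1, 2, 2, 1, 2, 2, 2, 1, 2, 2, 6])) (.node 40 (.leaf 27 5 [1, 2, 2, 1, 2, 2, 2, 1, 2, 2, 6, 4, 1, 3, 1, 3, 3]) (.leaf 27 11 [2, 1, 2, 2, 6, 4, 1, 3, 1, 3, 3, 1, 2, 2, 1, 2, 2]))) (.node 43 (.node 42 (.leaf 27 4 [3, 1, 2, 2, 1, 2, 2, 2, 1, 2, 2, 6, 4, 1, 3, 1, 3]) (.leaf 27 8 [1, 2, 2, 2, 1, 2, 2, 6, 4, 1, 3, 1, 3, 3, 1, 2, 2])) (.node 44 (.leaf 27 6 [2, 2, 1, 2, 2, 2, 1, 2, 2, 6, 4, 1, 3, 1, 3, 3, 1]) (.leaf 27 10 [2, 2, 1, 2, 2, 6, 4, 1, 3, 1, 3, 3, 1, 2, 2, 1, 2]))))) (.node 52 (.node 48 (.node 46 (.leaf 2 8 [1, 3, 3, 3, 7, 3, 3, 1, 2, 2, 1, 2, 2]) (.node 47 (.leaf 2 6 [2, 2, 1, 3, 3, 3, 7, 3, 3, 1, 2, 2, 1]) (.leaf 1 1 [1, 2, 2,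 2, 1, 5, 2]))) (.node 50 (.node 49 (.leaf 2 3 [2, 2, 1, 2, 2, 1, 3, 3, 3, 7, 3, 3, 1]) (.leaf 10 2 [3, 3, 3, 3, 3, 3, 3])) (.node 51 (.leaf 11 21 [2, 1, 2, 1, 2, 1, 2, 1, 2, 1, 2, 1, 2, 1, 2, 1, 2, 1, 2, 1, 2, 1]) (.leaf 28 7 [1, 2, 2, 2, 1, 3, 3, 1, 12, 9, 8, 9, 9, 9, 9, 8, 7, 7, 4, 7, 1, 2, 2, 1, 3, 3, 3])))) (.node 56 (.node 54 (.node 53 (.leaf 11 9 [2, 1, 2, 1, 2, 1, 2, 1, 2, 1, 2, 1, 2, 1, 2, 1, 2, 1, 2, 1, 2, 1]) (.leaf 29 7 [1, 2, 2, 2, 1, 2, 2, 1, 15, 16, 15, 11, 11, 13, 8, 10, 8, 9, 9, 8, 10, 10, 8, 4, 4, 4, 7, 5, 1, 3, 3, 1, 3, 3, 3])) (.node 55 (.leaf 11 17 [2, 1, 2, 1, 2, 1, 2, 1, 2, 1, 2, 1, 2, 1, 2, 1, 2, 1, 2, 1, 2, 1]) (.leaf 30 8 [1, 2, 1, 2, 2, 2, 1, 2, 15, 11, 11, 13, 8, 10, 10, 10, 10,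 7, 5, 5, 7, 4, 7, 2, 2, 1, 2, 2, 2, 1, 2]))) (.node 58 (.node 57 (.leaf 11 11 [2, 1, 2, 1, 2, 1, 2, 1, 2, 1, 2, 1, 2, 1, 2, 1, 2, 1, 2, 1, 2, 1]) (.leaf 10 5 [3, 3, 3, 3, 3, 3, 3])) (.node 59 (.leaf 31 8 [1, 3, 3, 1, 3, 3, 1, 3, 3, 15, 16, 15, 8, 9, 8, 9, 8, 10, 10, 10, 5, 5, 5, 6, 6, 4, 2, 2, 1, 2, 2, 1, 2, 2]) (.leaf 11 1 [2, 1, 2, 1, 2, 1, 2, 1, 2, 1, 2, 1, 2, 1, 2, 1, 2, 1, 2, 1, 2, 1]))))))) (.node 90 (.node 75 (.node 67 (.node 63 (.node 61 (.leaf 11 0 [1, 2, 1, 2, 1, 2, 1, 2, 1, 2, 1, 2, 1, 2, 1, 2, 1, 2, 1, 2, 1, 2]) (.node 62 (.leaf 11 19 [2, 1, 2, 1, 2, 1, 2, 1, 2, 1, 2, 1, 2, 1, 2, 1, 2, 1, 2, 1, 2, 1]) (.leaf 9 6 [2, 2, 2, 2, 2, 2, 2]))) (.node 65 (.node 64 (.leaf 13 0 [1, 2, 1, 3, 1, 2, 1, 3])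 (.leaf 11 6 [1, 2, 1, 2, 1, 2, 1, 2, 1, 2, 1, 2, 1, 2, 1, 2, 1, 2, 1, 2, 1, 2])) (.node 66 (.leaf 13 2 [1, 3, 1, 2, 1, 3, 1, 2]) (.leaf 3 1 [6, 6, 6, 4, 8, 5])))) (.node 71 (.node 69 (.node 68 (.leaf 12 5 [3, 1, 3, 1, 3, 1, 3, 1, 3, 1, 3, 1, 3, 1, 3, 1, 3, 1, 3, 1, 3, 1]) (.leaf 27 9 [2, 2, 2, 1, 2, 2, 6, 4, 1, 3, 1, 3, 3, 1, 2, 2, 1])) (.node 70 (.leaf 13 1 [2, 1, 3, 1, 2, 1, 3, 1]) (.leaf 12 8 [1, 3, 1, 3, 1, 3, 1, 3, 1, 3, 1, 3, 1, 3, 1, 3, 1, 3, 1, 3, 1, 3]))) (.node 73 (.node 72 (.leaf 11 10 [1, 2, 1, 2, 1, 2, 1, 2, 1, 2, 1, 2, 1, 2, 1, 2, 1, 2, 1, 2, 1, 2]) (.leaf 3 3 [6, 4, 8, 5, 6, 6])) (.node 74 (.leaf 11 2 [1, 2, 1, 2, 1, 2, 1, 2, 1, 2, 1, 2, 1, 2, 1, 2, 1, 2, 1, 2, 1, 2]) (.leaf 24 15 [15, 13, 12,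 13, 9, 8, 9, 9, 9, 9, 8, 9, 6, 4, 7, 4, 4, 4, 3, 1, 3, 1, 2, 2, 2, 1, 3, 3, 3, 1, 2, 1, 2]))))) (.node 82 (.node 78 (.node 76 (.leaf 12 2 [1, 3, 1, 3, 1, 3, 1, 3, 1, 3, 1, 3, 1, 3, 1, 3, 1, 3, 1, 3, 1, 3]) (.node 77 (.leaf 19 13 [16, 15, 13, 10, 10, 8, 10, 8, 9, 1, 3, 1, 3, 3, 3, 1, 2, 2, 2, 1, 2, 1]) (.leaf 21 31 [6, 5, 6, 1, 3, 3, 1, 2, 2, 2, 1, 3, 3, 3, 1, 2, 2, 1, 16, 15, 13, 11, 11, 8, 9, 9, 9, 8, 9, 8, 4, 4, 4, 4]))) (.node 80 (.node 79 (.leaf 26 28 [5, 5, 7, 1, 2, 1, 2, 1, 2, 2, 1, 3, 3, 1, 3, 1, 3, 1, 16, 15, 11, 14, 8, 10, 8, 9, 9, 8, 10, 6, 6]) (.leaf 3 2 [6, 6, 4, 8, 5, 6])) (.node 81 (.leaf 15 28 [5, 6, 4, 4, 6, 1, 2, 1, 2, 2, 1, 3, 3, 1, 3, 1, 15, 16, 15, 14, 12, 14, 8, 10, 8, 9, 9, 8, 10, 10,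 8, 7, 5]) (.leaf 14 14 [6, 5, 6, 4, 3, 3, 3, 1, 2, 2, 2, 15, 16, 13, 11, 11, 4, 4])))) (.node 86 (.node 84 (.node 83 (.leaf 16 21 [7, 4, 3, 1, 3, 1, 3, 3, 1, 2, 2, 1, 2, 1, 2, 15, 16, 12, 13, 4, 4, 6, 4]) (.leaf 10 4 [3, 3, 3, 3, 3, 3, 3])) (.node 85 (.leaf 12 12 [1, 3, 1, 3, 1, 3, 1, 3, 1, 3, 1, 3, 1, 3, 1, 3, 1, 3, 1, 3, 1, 3]) (.leaf 27 13 [2, 2, 6, 4, 1, 3, 1, 3, 3, 1, 2, 2, 1, 2, 2, 2, 1]))) (.node 88 (.node 87 (.leaf 2 7 [2, 1, 3, 3, 3, 7, 3, 3, 1, 2, 2, 1, 2]) (.leaf 12 11 [3, 1, 3, 1, 3, 1, 3, 1, 3, 1, 3, 1, 3, 1, 3, 1, 3, 1, 3, 1, 3, 1])) (.node 89 (.leaf 11 13 [2, 1, 2, 1, 2, 1, 2, 1, 2, 1, 2, 1, 2, 1, 2, 1, 2, 1, 2, 1, 2, 1]) (.leaf 30 30 [7, 2, 2, 1, 2, 2, 2, 1, 2, 1, 2, 1, 2, 2, 2, 1, 2, 15, 11,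 11, 13, 8, 10, 10, 10, 10, 7, 5, 5, 7, 4])))))) (.node 105 (.node 97 (.node 93 (.node 91 (.leaf 2 4 [2, 1, 2, 2, 1, 3, 3, 3, 7, 3, 3, 1, 2]) (.node 92 (.leaf 2 2 [1, 2, 2, 1, 2, 2, 1, 3, 3, 3, 7, 3, 3]) (.leaf 22 17 [8, 9, 9, 3, 1, 3, 1, 3, 3, 3, 1, 2, 2, 2, 1, 2, 1, 2, 10, 10]))) (.node 95 (.node 94 (.leaf 18 23 [4, 7, 1, 3, 1, 2, 2, 2, 1, 3, 3, 3, 1, 2, 1, 12, 9, 8, 9, 9, 9, 9, 8, 7, 7]) (.leaf 2 9 [3, 3, 3, 7, 3, 3, 1, 2, 2, 1, 2, 2, 1])) (.node 96 (.leaf 2 10 [3, 3, 7, 3, 3, 1, 2, 2, 1, 2, 2, 1, 3]) (.leaf 11 18 [1, 2, 1, 2, 1, 2, 1, 2, 1, 2, 1, 2, 1, 2, 1, 2, 1, 2, 1, 2, 1, 2])))) (.node 101 (.node 99 (.node 98 (.leaf 22 16 [10, 8, 9, 9, 3, 1, 3, 1, 3, 3, 3, 1, 2, 2, 2, 1, 2, 1, 2, 10]) (.leaf 2 11 [3,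 7, 3, 3, 1, 2, 2, 1, 2, 2, 1, 3, 3])) (.node 100 (.leaf 4 3 [6, 5, 7, 4, 4, 10, 4, 7, 4]) (.leaf 18 20 [8, 7, 7, 4, 7, 1, 3, 1, 2, 2, 2, 1, 3, 3, 3, 1, 2, 1, 12, 9, 8, 9, 9, 9, 9]))) (.node 103 (.node 102 (.leaf 22 18 [9, 9, 3, 1, 3, 1, 3, 3, 3, 1, 2, 2, 2, 1, 2, 1, 2, 10, 10, 8]) (.leaf 22 10 [2, 1, 2, 1, 2, 10, 10, 8, 9, 9, 3, 1, 3, 1, 3, 3, 3, 1, 2, 2])) (.node 104 (.leaf 18 13 [12, 9, 8, 9, 9, 9, 9, 8, 7, 7, 4, 7, 1, 3, 1, 2, 2, 2, 1, 3, 3, 3, 1, 2, 1]) (.leaf 28 3 [1, 3, 3, 3, 1, 2, 2, 2, 1, 3, 3, 1, 12, 9, 8, 9, 9, 9, 9, 8, 7, 7, 4, 7, 1, 2, 2]))))) (.node 113 (.node 109 (.node 107 (.node 106 (.leaf 22 19 [9, 3, 1, 3, 1, 3, 3, 3, 1, 2, 2, 2, 1, 2, 1, 2, 10, 10, 8, 9]) (.leaf 27 12 [1, 2, 2, 6, 4, 1,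 3, 1, 3, 3, 1, 2, 2, 1, 2, 2, 2])) (.node 108 (.leaf 3 0 [5, 6, 6, 6, 4, 8]) (.leaf 28 1 [2, 2, 1, 3, 3, 3, 1, 2, 2, 2, 1, 3, 3, 1, 12, 9, 8, 9, 9, 9, 9, 8, 7, 7, 4, 7, 1]))) (.node 111 (.node 110 (.leaf 27 3 [3, 3, 1, 2, 2, 1, 2, 2, 2, 1, 2, 2, 6, 4, 1, 3, 1]) (.leaf 4 6 [4, 4, 10, 4, 7, 4, 6, 5, 7])) (.node 112 (.leaf 22 15 [10, 10, 8, 9, 9, 3, 1, 3, 1, 3, 3, 3, 1, 2, 2, 2, 1, 2, 1, 2]) (.leaf 12 13 [3, 1, 3, 1, 3, 1, 3, 1, 3, 1, 3, 1, 3, 1, 3, 1, 3, 1, 3, 1, 3, 1])))) (.node 117 (.node 115 (.node 114 (.leaf 1 5 [1, 5, 2, 1, 2, 2, 2]) (.leaf 11 20 [1, 2, 1, 2, 1, 2, 1, 2, 1, 2, 1, 2, 1, 2, 1, 2, 1, 2, 1, 2, 1, 2])) (.node 116 (.leaf 1 4 [2, 1, 5, 2, 1, 2, 2]) (.leaf 22 11 [1, 2, 1, 2, 10, 10, 8, 9, 9, 3,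 1, 3, 1, 3, 3, 3, 1, 2, 2, 2]))) (.node 119 (.node 118 (.leaf 4 1 [7, 4, 6, 5, 7, 4, 4, 10, 4]) (.leaf 5 7 [9, 9, 12, 9, 8, 9, 9, 8, 9, 9])) (.node 120 (.leaf 22 6 [3, 1, 2, 2, 2, 1, 2, 1, 2, 10, 10, 8, 9, 9, 3, 1, 3, 1, 3, 3]) (.leaf 28 6 [3, 1, 2, 2, 2, 1, 3, 3, 1, 12, 9, 8, 9, 9, 9, 9, 8, 7, 7, 4, 7, 1, 2, 2, 1, 3, 3]))))))))

theorem b0 : allR (guardB 16 (blk fc sc rt.get Cfsg.Agent.Lib.Helper3.U62.INV isH)) 4 0 = true := by decide +kernel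
theorem c0 : allR (guardB 22 (cblk fc nc cc 4096 693 79228162514264337593543950336 gens)) 5 0 = true := by decide +kernel

theorem chkAll : ∀ j < 16, blk fc sc rt.get Cfsg.Agent.Lib.Helper3.U62.INV isH j = true :=
  guardB_spec (D := 4) b0 (by norm_num)

theorem clAll : ∀ jb < 22, cblk fc nc cc (256 * 16) 693 79228162514264337593543950336 gens jb = true :=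
  guardB_spec (D := 5) c0 (by norm_num)

theorem card_eq : Nat.card (lgrp (vL Cfsg.Agent.Lib.Helper3.U62.ntl Cfsg.Agent.Lib.Helper3.U62.deg) gens) = 693 * Nat.card (lgrp (vL Cfsg.Agent.Lib.Helper3.U62.ntl Cfsg.Agent.Lib.Helper3.U62.deg) hl) :=
  Cfsg.Agent.Lib.Helper3.U62.setup.level gens hl dl BR (by decide +kernel) (by decide +kernel) (by decide +kernel) (by decide +kernel)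
    (by decide +kernel) rt (by decide +kernel) isH (fun l h => of_decide_eq_true h) fc sc nc cc 16 22 693 79228162514264337593543950336
    (by norm_num) (by norm_num) (by decide +kernel) (by decide) chkAll clAll
    0 0 18 (by norm_num [Cfsg.Agent.Lib.Helper3.U62.deg]) (by norm_num [Cfsg.Agent.Lib.Helper3.U62.deg]) (by decide +kernel) (by decide +kernel)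

theorem ub {M : Type*} [Group M] (w : ℕ → M) (h0 : w 0 = 1) (hinv : ∀ l, w (invL Cfsg.Agent.Lib.Helper3.U62.INV l) = (w l)⁻¹)
    (hBR : ∀ r ∈ BR, (r.map w).prod = 1)
    (hdlr : ∀ r ∈ dl.map (fun p => p.1 ++ [p.2]), (r.map w).prod = 1) (N : ℕ) (hN : Bd w hl N) :
    Bd w gens (693 * N) :=
  level_bd w Cfsg.Agent.Lib.Helper3.U62.INV h0 hinv gens hl dl BR (by decide +kernel) hdlr hBR (by decide +kernel) (by decide +kernel)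
    rt (by decide +kernel) isH (fun l h => of_decide_eq_true h) fc sc nc cc 16 22 693 79228162514264337593543950336
    (by norm_num) (by norm_num) (by decide +kernel) (by decide) chkAll clAll N hN

end Cfsg.Agent.Lib.Helper3.U62.L1
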