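import Cfsg.Agent.Lib.Helper3.U62.L2D
import Cfsg.Agent.Lib.Helper3.U62.Net

set_option autoImplicit false
set_option maxRecDepth 100000

namespace Cfsg.Agent.Lib.Helper3.U62.L2

open Cfsg.Agent.Lib.Helper11 Cfsg.Agent.Lib.Helper3

set_option maxHeartbeats 0

noncomputable def fc (i : ℕ) : ℕ := (fc0_0 i)
noncomputable def sc (i : ℕ) : ℕ := (sc0_0 i)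
noncomputable def nc (i : ℕ) : ℕ := (nc0_0 i)
noncomputable def cc (i : ℕ) : ℕ := (cc0_0 i)

def isH (l : ℕ) : Bool := decide (l ∈ [8, 9])
def gens : List ℕ := [4, 6]
def hl : List ℕ := [8, 9]
def dl : List (List ℕ × ℕ) := [([4], 5), ([6], 7), ([5, 6, 6, 6, 4], 8), ([4, 7, 4, 6, 5, 7, 4, 4], 10), ([10], 9), ([9, 8, 9, 9, 8, 9, 9, 9, 9], 12), ([12], 11), ([8, 9, 8, 9, 8, 9, 9, 8, 9, 8, 9], 14), ([14], 13), ([14, 11, 13, 11, 11], 15), ([14, 12, 13, 11, 13, 11], 16)]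
def BR : List (List ℕ) := [[], [5, 6, 6, 6, 4, 8], [4, 7, 4, 6, 5, 7, 4, 4, 10], [9, 8, 9, 9, 8, 9, 9, 9, 9, 12], [8, 9, 8, 9, 8, 9, 9, 8, 9, 8, 9, 14], [14, 11, 13, 11, 11, 15], [14, 12, 13, 11, 13, 11, 16], [4, 4, 4, 4, 4, 4, 4, 4, 4, 4, 4, 4], [5, 5, 5, 5, 5, 5, 5, 5, 5, 5, 5, 5], [6, 6, 6, 6, 6, 6], [7, 7, 7, 7, 7, 7], [4, 6, 4, 6, 4, 6, 4, 6, 4, 6, 4, 6, 4, 6, 4, 6, 4, 6, 4, 6, 4, 6, 4, 6], [4, 7, 4, 7, 4, 7, 4, 7, 4, 7, 4, 7], [5, 6, 5, 6, 5, 6, 5, 6, 5, 6, 5, 6], [5, 7, 5, 7, 5, 7, 5, 7, 5, 7, 5, 7, 5, 7, 5, 7, 5, 7, 5, 7, 5, 7, 5, 7], [4, 4, 6, 4, 4, 6, 4, 4, 6, 4, 4, 6, 4, 4, 6, 4, 4, 6, 4, 4, 6, 4, 4, 6, 4, 4, 6, 4, 4, 6, 4, 4, 6, 4, 4, 6], [4, 4, 7, 4, 4, 7, 4, 4, 7, 4, 4, 7, 4, 4,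 7, 4, 4, 7, 4, 4, 7, 4, 4, 7, 4, 4, 7], [4, 6, 6, 4, 6, 6, 4, 6, 6, 4, 6, 6, 4, 6, 6, 4, 6, 6], [4, 7, 7, 4, 7, 7, 4, 7, 7, 4, 7, 7, 4, 7, 7, 4, 7, 7, 4, 7, 7, 4, 7, 7, 4, 7, 7], [5, 5, 6, 5, 5, 6, 5, 5, 6, 5, 5, 6, 5, 5, 6, 5, 5, 6, 5, 5, 6, 5, 5, 6, 5, 5, 6], [5, 5, 7, 5, 5, 7, 5, 5, 7, 5, 5, 7, 5, 5, 7, 5, 5, 7, 5, 5, 7, 5, 5, 7, 5, 5, 7, 5, 5, 7, 5, 5, 7, 5, 5, 7], [5, 6, 6, 5, 6, 6, 5, 6, 6, 5, 6, 6, 5, 6, 6, 5, 6, 6, 5, 6, 6, 5, 6, 6, 5, 6, 6], [5, 7, 7, 5, 7, 7, 5, 7, 7, 5, 7, 7, 5, 7, 7, 5, 7, 7], [6, 6, 6, 6, 6, 6], [4, 4, 4, 6, 4, 4, 4, 6, 4, 4, 4, 6, 4, 4, 4, 6], [4, 4, 4, 7, 4, 4, 4, 7, 4, 4, 4, 7, 4, 4, 4, 7, 4, 4, 4, 7], [4, 4, 7, 7, 4, 4, 7, 7, 4, 4, 7, 7, 4, 4, 7, 7, 4, 4, 7,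 7, 4, 4, 7, 7], [4, 6, 4, 7, 4, 6, 4, 7, 4, 6, 4, 7, 4, 6, 4, 7, 4, 6, 4, 7, 4, 6, 4, 7], [4, 6, 5, 7, 4, 6, 5, 7, 4, 6, 5, 7, 4, 6, 5, 7, 4, 6, 5, 7], [4, 6, 6, 6, 4, 6, 6, 6, 4, 6, 6, 6, 4, 6, 6, 6, 4, 6, 6, 6, 4, 6, 6, 6, 4, 6, 6, 6, 4, 6, 6, 6, 4, 6, 6, 6], [4, 7, 4, 7, 4, 7, 4, 7, 4, 7, 4, 7], [4, 7, 5, 6, 4, 7, 5, 6, 4, 7, 5, 6, 4, 7, 5, 6, 4, 7, 5, 6], [4, 7, 7, 7, 4, 7, 7, 7, 4, 7, 7, 7, 4, 7, 7, 7, 4, 7, 7, 7, 4, 7, 7, 7, 4, 7, 7, 7, 4, 7, 7, 7, 4, 7, 7, 7], [5, 5, 5, 6, 5, 5, 5, 6, 5, 5, 5, 6, 5, 5, 5, 6, 5, 5, 5, 6], [5, 5, 5, 7, 5, 5, 5, 7, 5, 5, 5, 7, 5, 5, 5, 7], [5, 5, 6, 6, 5, 5, 6, 6, 5, 5, 6, 6, 5, 5, 6, 6, 5, 5, 6, 6, 5, 5, 6, 6], [5, 6, 5, 7, 5, 6, 5, 7, 5, 6, 5, 7, 5, 6,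 5, 7, 5, 6, 5, 7, 5, 6, 5, 7], [5, 6, 6, 6, 5, 6, 6, 6, 5, 6, 6, 6, 5, 6, 6, 6, 5, 6, 6, 6, 5, 6, 6, 6, 5, 6, 6, 6, 5, 6, 6, 6, 5, 6, 6, 6], [5, 7, 7, 7, 5, 7, 7, 7, 5, 7, 7, 7, 5, 7, 7, 7, 5, 7, 7, 7, 5, 7, 7, 7, 5, 7, 7, 7, 5, 7, 7, 7, 5, 7, 7, 7], [4, 6, 6, 6, 5, 15, 16, 15, 13], [5, 5, 6, 6, 6, 4, 4, 15, 16, 11, 14, 10, 10], [6, 4, 4, 6, 4, 7, 5, 12, 9, 8, 10, 10, 8, 9, 9, 8, 10], [6, 4, 6, 6, 6, 5, 7, 16, 13, 11, 11, 10, 8, 10, 8, 9, 9, 9], [7, 4, 6, 6, 6, 5, 6, 15, 16, 13, 12, 13, 8, 10, 8, 9, 9], [4, 6, 5, 6, 6, 5, 7, 5, 15, 14, 12, 14, 9, 8, 10, 10, 8, 9, 9, 8, 10], [4, 7, 4, 4, 4, 7, 5, 6, 15, 13, 10, 10, 8, 10, 10, 8, 9], [4, 7, 4, 4, 6, 4, 6, 4, 15, 16, 15, 13, 10, 8, 9, 9], [6, 4,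 4, 4, 7, 5, 7, 5, 15, 13, 11, 8, 9, 9, 8, 9, 8, 10], [6, 4, 7, 4, 6, 6, 4, 6, 16, 15, 11, 11, 10, 10, 10, 8, 10], [7, 5, 6, 4, 7, 5, 5, 5, 16, 15, 11, 13, 11, 11, 10, 10, 8, 9, 9, 9], [6, 6, 4, 6, 4, 6, 4, 7, 16, 8, 9], [7, 4, 7, 4, 6, 5, 7, 7, 16, 15, 13, 12, 13, 9, 8, 10, 10, 8, 10, 10], [6, 5, 7, 7, 4, 7, 4, 7, 4, 15, 16, 13, 12, 13, 8, 9, 9, 9], [5, 6, 5, 6, 4, 7, 4, 6, 6, 15, 16, 11, 14, 11, 14, 10, 8, 10, 8, 9, 9], [5, 6, 5, 6, 6, 6, 4, 7, 4, 15, 16, 13, 12, 13, 8, 10, 8, 9, 9], [4, 4, 7, 4, 4, 7, 4, 6, 5, 14, 11, 10, 8, 10, 8], [5, 7, 4, 7, 4, 6, 4, 4, 7, 15, 16, 15, 11, 9, 8, 10, 10], [5, 6, 4, 4, 6, 5, 5, 7, 5, 16, 15, 11, 10, 8, 9, 9, 8, 10, 10, 8], [5, 7, 5, 6, 6, 5, 5, 6, 5, 12,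 10, 10, 8, 10, 8, 10, 10], [7, 7, 4, 6, 6, 6, 5, 6, 6, 16, 13, 11, 11, 10, 8, 10, 8, 9, 9, 9], [5, 6, 5, 7, 4, 7, 4, 7, 7, 16, 15, 14, 10, 10, 10], [7, 4, 4, 7, 4, 6, 5, 6, 6, 15, 16, 15, 12, 14, 11, 11, 8], [7, 5, 7, 4, 6, 4, 7, 5, 7, 16, 14, 12, 14, 8, 9, 8, 9], [6, 5, 5, 6, 6, 6, 4, 4, 7, 15, 16, 15, 12, 14, 12, 8, 9, 9, 8, 10, 10, 10, 10], [5, 6, 4, 6, 6, 5, 6, 4, 4, 15, 16, 15, 12, 14, 12, 8, 9, 9, 9], [5, 6, 4, 4, 4, 6, 5, 6, 5, 5, 15, 11, 13, 11, 13, 8, 9, 9, 8, 10, 10], [7, 4, 4, 7, 5, 6, 6, 4, 4, 6, 11, 14, 12, 9, 8, 10, 10, 8, 9, 9, 8, 10], [7, 7, 5, 5, 6, 6, 6, 4, 6, 6, 16, 11, 14, 11, 9, 8, 9, 9, 9, 8], [5, 7, 4, 7, 5, 6, 6, 5, 5, 6, 15, 16, 15, 11, 14, 11, 14, 10, 8, 10, 8], [7,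 5, 6, 6, 6, 5, 7, 5, 6, 4, 16, 14, 12, 14, 8, 9, 8, 9], [6, 5, 5, 5, 6, 5, 5, 7, 5, 5, 15, 11, 14, 11, 8, 9, 8, 9, 8, 10, 10, 10], [5, 5, 5, 5, 6, 4, 7, 4, 4, 7, 15, 9, 8, 10, 10, 8, 9], [5, 7, 4, 4, 6, 4, 6, 4, 4, 4, 11, 13, 10, 8, 9, 9], [5, 7, 5, 6, 4, 4, 4, 4, 7, 4, 16, 15, 11, 14, 8, 10, 10, 10], [6, 4, 6, 5, 6, 4, 6, 4, 6, 5, 15, 16, 15, 11, 14, 8, 10, 10], [6, 6, 6, 5, 5, 6, 4, 4, 6, 6, 11, 13, 11, 14, 8, 9, 9, 8, 10, 10, 10, 10], [6, 5, 6, 6, 6, 4, 4, 4, 6, 6, 15, 16, 15, 11, 8, 9, 9, 8, 9], [5, 5, 5, 7, 4, 6, 6, 5, 6, 4, 16, 11, 13, 12, 9, 9, 9, 9], [4, 7, 5, 6, 4, 4, 7, 5, 5, 6, 16, 11, 14, 10, 10, 8, 9, 9, 9, 9], [4, 4, 6, 6, 6, 4, 7, 7, 5, 5, 15, 16, 14, 8, 9, 9, 8, 9, 8, 9, 8, 9,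 9, 8, 10], [6, 4, 6, 4, 4, 4, 6, 5, 6, 4, 12, 14, 11, 9, 9, 9, 9], [6, 4, 6, 4, 6, 5, 6, 4, 4, 4, 11, 13, 11, 14, 9, 9, 9, 9], [7, 5, 7, 5, 6, 6, 5, 7, 5, 5, 15, 14, 12, 9, 9, 9], [6, 5, 6, 6, 4, 6, 4, 4, 4, 4, 15, 16, 15, 11, 10, 10, 8, 10, 10, 8], [7, 7, 4, 7, 4, 6, 6, 4, 7, 7, 16, 15, 11, 11, 10, 10, 10, 8, 10], [4, 4, 4, 6, 6, 6, 4, 4, 6, 5, 13, 10, 10, 8, 10, 8, 10], [4, 6, 4, 4, 4, 6, 5, 5, 6, 6, 15, 16, 12, 14, 11, 11, 10, 10, 10, 8, 10], [7, 4, 4, 4, 4, 6, 5, 5, 5, 5, 16, 15, 11, 13, 11, 14, 9, 8, 10, 10, 8], [4, 6, 4, 6, 4, 4, 6, 5, 6, 5, 15, 16, 13, 11, 11, 8, 9, 8, 9], [4, 4, 7, 5, 5, 6, 4, 7, 4, 4, 16, 15, 14, 12, 9, 9, 9, 9], [6, 5, 5, 6, 4, 4, 7, 5, 6, 6, 15, 13, 12, 13, 8, 9,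 9, 9, 9], [6, 4, 4, 7, 4, 6, 6, 4, 4, 4, 15, 16, 15, 13, 11, 8, 9, 8, 9, 8, 10, 10, 10], [6, 5, 6, 4, 4, 4, 4, 6, 4, 6, 15, 16, 15, 12, 14, 11, 11, 8, 9, 9, 8, 10, 10, 10, 10], [4, 4, 7, 4, 6, 6, 4, 4, 4, 7, 16, 11, 14, 11, 10, 10, 8, 9, 9, 9, 9], [5, 6, 4, 6, 4, 6, 5, 6, 4, 6, 15, 16, 15, 11, 14, 8, 10, 10], [5, 5, 5, 5, 7, 4, 4, 4, 4, 6, 16, 15, 11, 13, 11, 14, 9, 8, 10, 10, 8], [5, 5, 7, 4, 4, 4, 4, 6, 5, 6, 16, 15, 11, 14, 11, 14, 10, 8, 9, 9], [4, 6, 5, 5, 6, 4, 4, 7, 4, 6, 4, 11, 13, 11, 11, 9, 8], [7, 5, 5, 7, 5, 6, 5, 5, 6, 5, 7, 12, 14, 11, 11, 10, 8, 10, 8], [6, 6, 5, 5, 6, 4, 7, 7, 4, 4, 6, 16, 11, 13, 10, 10, 8, 10, 8, 10, 8, 9], [6, 6, 5, 5, 6, 6, 4, 6, 4, 6, 6, 15, 16, 15, 11,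 11, 13, 10], [6, 6, 5, 7, 5, 6, 5, 5, 7, 5, 6, 11, 11, 13, 9, 8, 10, 10, 8, 10, 10, 8, 9], [6, 5, 5, 5, 5, 6, 6, 5, 6, 5, 5, 15, 16, 15, 11, 11, 13, 11, 8, 9, 8], [5, 5, 7, 5, 7, 4, 6, 6, 5, 6, 5, 15, 11, 14, 11, 10, 8, 10, 8, 9, 9], [5, 6, 4, 6, 5, 6, 4, 7, 5, 7, 4, 16, 15, 11, 14, 11, 10, 10, 10, 8], [7, 4, 4, 4, 6, 6, 5, 7, 5, 5, 6, 15, 16, 15, 11, 13, 11, 13, 9, 8, 10, 10, 8, 9], [7, 7, 5, 7, 4, 6, 5, 5, 6, 4, 4, 16, 15, 11, 13, 11, 11, 9, 9, 9, 9], [6, 4, 7, 5, 6, 4, 4, 6, 4, 4, 6, 15, 16, 13, 11, 8, 10, 8], [6, 4, 7, 5, 6, 6, 6, 4, 6, 5, 7, 15, 16, 15, 11, 13, 11, 11, 8, 10, 8, 9, 9, 9], [7, 4, 4, 6, 4, 4, 4, 6, 5, 7, 5, 15, 16, 15, 11, 13, 12, 8, 9, 9, 9, 8, 9, 8], [4, 4, 6, 6, 4, 6,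 6, 4, 6, 5, 6, 15, 16, 15, 13, 10, 10, 8, 9, 9, 9, 9], [7, 7, 4, 6, 4, 4, 4, 6, 4, 7, 7, 15, 16, 15, 13, 11, 11, 8, 9], [4, 4, 4, 6, 4, 4, 7, 5, 5, 7, 5, 16, 15, 11, 13, 11, 11, 9, 8, 10], [6, 5, 6, 5, 6, 6, 6, 4, 7, 4, 7, 15, 16, 15, 13], [4, 6, 5, 5, 5, 6, 4, 7, 4, 4, 4, 15, 16, 11, 13, 10, 10, 8, 10, 10, 8, 9], [7, 5, 7, 5, 7, 4, 7, 4, 6, 5, 6, 15, 16, 15, 12, 14, 10, 8, 9, 9, 8, 9, 9], [6, 5, 6, 6, 5, 6, 5, 6, 5, 7, 7, 15, 16, 13, 12, 13, 8, 9, 9, 9], [6, 5, 7, 4, 7, 4, 6, 4, 7, 7, 7, 16, 15, 11, 13, 11, 14, 10, 10, 10, 8, 10], [4, 4, 7, 4, 7, 4, 6, 4, 7, 4, 7, 15, 16, 15, 8, 9, 9, 8, 9, 9], [6, 6, 5, 5, 7, 4, 6, 4, 4, 7, 4, 12, 9, 8, 10, 10, 8, 9, 9, 8, 10], [4, 4, 4, 7, 7, 4, 4, 6, 5,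 5, 5, 11, 11, 13, 8, 9, 9, 8, 9, 8, 9, 8, 9, 9, 8, 10], [6, 6, 6, 5, 6, 6, 6, 4, 7, 7, 7, 8], [5, 7, 4, 6, 6, 4, 7, 5, 7, 4, 7, 16, 14, 10, 10, 8], [7, 7, 4, 4, 4, 4, 7, 5, 6, 4, 4, 12, 14, 12, 8, 9, 9, 8, 9, 9, 8], [6, 5, 5, 7, 4, 6, 4, 4, 4, 4, 4, 11, 13, 12, 14, 10, 10, 8, 10, 8, 9], [6, 5, 6, 4, 4, 6, 4, 4, 6, 4, 4, 16, 13, 12, 9, 9, 9], [4, 4, 7, 7, 4, 4, 4, 6, 4, 6, 6, 15, 16, 15, 14, 11, 10, 8, 10, 8, 9, 9], [5, 6, 4, 6, 4, 4, 6, 4, 4, 7, 7, 15, 16, 15, 11, 14, 11, 14, 8, 9, 8, 9, 9], [7, 5, 5, 6, 4, 6, 6, 5, 5, 7, 7, 16, 15, 12, 14, 11, 10, 10, 8, 10, 8, 10, 8, 9], [7, 4, 6, 4, 4, 4, 7, 7, 4, 4, 4, 16, 13, 12, 13, 9, 8, 10, 10, 8, 10, 10], [7, 5, 5, 6, 5, 6, 5, 5, 6, 4, 7, 15, 16, 15,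 11, 13, 10, 10, 10, 8]]
def rt : RT := (.node 252 (.node 126 (.node 63 (.node 31 (.node 15 (.node 7 (.node 3 (.node 1 (.leaf 0 0 []) (.node 2 (.leaf 2 4 [5, 7, 4, 4, 10, 4, 7, 4, 6]) (.leaf 7 6 [4, 4, 4, 4, 4, 4, 4, 4, 4, 4, 4, 4]))) (.node 5 (.node 4 (.leaf 12 6 [4, 7, 4, 7, 4, 7, 4, 7, 4, 7, 4, 7]) (.leaf 1 5 [8, 5, 6, 6, 6, 4])) (.node 6 (.leaf 1 2 [6, 6, 4, 8, 5, 6]) (.leaf 2 8 [10, 4, 7, 4, 6, 5, 7, 4, 4])))) (.node 11 (.node 9 (.node 8 (.leaf 9 3 [6, 6, 6, 6, 6, 6]) (.leaf 1 1 [6, 6, 6, 4, 8, 5])) (.node 10 (.leaf 3 9 [12, 9, 8, 9, 9, 8, 9, 9, 9, 9]) (.leaf 4 11 [14, 8, 9, 8, 9, 8, 9, 9, 8, 9, 8, 9]))) (.node 13 (.node 12 (.leaf 6 6 [16, 14, 12, 13, 11, 13, 11]) (.leaf 5 5 [15, 14, 11,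 13, 11, 11])) (.node 14 (.leaf 39 2 [6, 6, 5, 15, 16, 15, 13, 4, 6]) (.leaf 40 3 [6, 6, 4, 4, 15, 16, 11, 14, 10, 10, 5, 5, 6]))))) (.node 23 (.node 19 (.node 17 (.node 16 (.leaf 41 3 [6, 4, 7, 5, 12, 9, 8, 10, 10, 8, 9, 9, 8, 10, 6, 4, 4]) (.leaf 42 3 [6, 6, 5, 7, 16, 13, 11, 11, 10, 8, 10, 8, 9, 9, 9, 6, 4, 6])) (.node 18 (.leaf 43 3 [6, 6, 5, 6, 15, 16, 13, 12, 13, 8, 10, 8, 9, 9, 7, 4, 6]) (.leaf 44 3 [6, 6, 5, 7, 5, 15, 14, 12, 14, 9, 8, 10, 10, 8, 9, 9, 8, 10, 4, 6, 5]))) (.node 21 (.node 20 (.leaf 45 4 [4, 7, 5, 6, 15, 13, 10, 10, 8, 10, 10, 8, 9, 4, 7, 4, 4]) (.leaf 46 4 [6, 4, 6, 4, 15, 16, 15, 13, 10, 8, 9, 9, 4, 7, 4, 4])) (.node 22 (.leaf 47 3 [4, 7, 5, 7, 5, 15, 13, 11, 8, 9, 9,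 8, 9, 8, 10, 6, 4, 4]) (.leaf 48 4 [6, 6, 4, 6, 16, 15, 11, 11, 10, 10, 10, 8, 10, 6, 4, 7, 4])))) (.node 27 (.node 25 (.node 24 (.leaf 49 3 [4, 7, 5, 5, 5, 16, 15, 11, 13, 11, 11, 10, 10, 8, 9, 9, 9, 7, 5, 6]) (.leaf 50 3 [6, 4, 6, 4, 7, 16, 8, 9, 6, 6, 4])) (.node 26 (.leaf 51 3 [4, 6, 5, 7, 7, 16, 15, 13, 12, 13, 9, 8, 10, 10, 8, 10, 10, 7, 4, 7]) (.leaf 52 4 [4, 7, 4, 7, 4, 15, 16, 13, 12, 13, 8, 9, 9, 9, 6, 5, 7, 7]))) (.node 29 (.node 28 (.leaf 12 9 [7, 4, 7, 4, 7, 4, 7, 4, 7, 4, 7, 4]) (.leaf 53 4 [4, 7, 4, 6, 6, 15, 16, 11, 14, 11, 14, 10, 8, 10, 8, 9, 9, 5, 6, 5, 6])) (.node 30 (.leaf 54 4 [6, 6, 4, 7, 4, 15, 16, 13, 12, 13, 8, 10, 8, 9, 9, 5, 6, 5, 6]) (.leaf 17 13 [6, 6, 4, 6, 6,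 4, 6, 6, 4, 6, 6, 4, 6, 6, 4, 6, 6, 4])))))) (.node 47 (.node 39 (.node 35 (.node 33 (.node 32 (.leaf 55 4 [4, 7, 4, 6, 5, 14, 11, 10, 8, 10, 8, 4, 4, 7, 4]) (.leaf 56 4 [4, 6, 4, 4, 7, 15, 16, 15, 11, 9, 8, 10, 10, 5, 7, 4, 7])) (.node 34 (.leaf 57 4 [6, 5, 5, 7, 5, 16, 15, 11, 10, 8, 9, 9, 8, 10, 10, 8, 5, 6, 4, 4]) (.leaf 58 4 [6, 5, 5, 6, 5, 12, 10, 10, 8, 10, 8, 10, 10, 5, 7, 5, 6]))) (.node 37 (.node 36 (.leaf 59 4 [6, 6, 5, 6, 6, 16, 13, 11, 11, 10, 8, 10, 8, 9, 9, 9, 7, 7, 4, 6]) (.leaf 60 4 [4, 7, 4, 7, 7, 16, 15, 14, 10, 10, 10, 5, 6, 5, 7])) (.node 38 (.leaf 61 4 [4, 6, 5, 6, 6, 15, 16, 15, 12, 14, 11, 11, 8, 7, 4, 4, 7]) (.leaf 12 3 [7, 4, 7, 4, 7, 4, 7, 4, 7, 4, 7, 4])))) (.node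 43 (.node 41 (.node 40 (.leaf 62 4 [6, 4, 7, 5, 7, 16, 14, 12, 14, 8, 9, 8, 9, 7, 5, 7, 4]) (.leaf 63 4 [6, 6, 4, 4, 7, 15, 16, 15, 12, 14, 12, 8, 9, 9, 8, 10, 10, 10, 10, 6, 5, 5, 6])) (.node 42 (.leaf 13 11 [6, 5, 6, 5, 6, 5, 6, 5, 6, 5, 6, 5]) (.leaf 64 4 [6, 5, 6, 4, 4, 15, 16, 15, 12, 14, 12, 8, 9, 9, 9, 5, 6, 4, 6]))) (.node 45 (.node 44 (.leaf 9 2 [6, 6, 6, 6, 6, 6]) (.leaf 65 4 [4, 6, 5, 6, 5, 5, 15, 11, 13, 11, 13, 8, 9, 9, 8, 10, 10, 5, 6, 4, 4])) (.node 46 (.leaf 66 5 [6, 6, 4, 4, 6, 11, 14, 12, 9, 8, 10, 10, 8, 9, 9, 8, 10, 7, 4, 4, 7, 5]) (.leaf 67 5 [6, 6, 4, 6, 6, 16, 11, 14, 11, 9, 8, 9, 9, 9, 8, 7, 7, 5, 5, 6]))))) (.node 55 (.node 51 (.node 49 (.node 48 (.leaf 68 5 [6, 6, 5,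 5, 6, 15, 16, 15, 11, 14, 11, 14, 10, 8, 10, 8, 5, 7, 4, 7, 5]) (.leaf 9 4 [6, 6, 6, 6, 6, 6])) (.node 50 (.leaf 69 4 [6, 5, 7, 5, 6, 4, 16, 14, 12, 14, 8, 9, 8, 9, 7, 5, 6, 6]) (.leaf 13 0 [5, 6, 5, 6, 5, 6, 5, 6, 5, 6, 5, 6]))) (.node 53 (.node 52 (.leaf 70 4 [6, 5, 5, 7, 5, 5, 15, 11, 14, 11, 8, 9, 8, 9, 8, 10, 10, 10, 6, 5, 5, 5]) (.leaf 71 5 [4, 7, 4, 4, 7, 15, 9, 8, 10, 10, 8, 9, 5, 5, 5, 5, 6])) (.node 54 (.leaf 72 4 [6, 4, 6, 4, 4, 4, 11, 13, 10, 8, 9, 9, 5, 7, 4, 4]) (.leaf 73 4 [4, 4, 4, 4, 7, 4, 16, 15, 11, 14, 8, 10, 10, 10, 5, 7, 5, 6])))) (.node 59 (.node 57 (.node 56 (.leaf 74 4 [6, 4, 6, 4, 6, 5, 15, 16, 15, 11, 14, 8, 10, 10, 6, 4, 6, 5]) (.leaf 75 5 [6, 4, 4, 6, 6, 11, 13,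 11, 14, 8, 9, 9, 8, 10, 10, 10, 10, 6, 6, 6, 5, 5])) (.node 58 (.leaf 76 5 [4, 4, 4, 6, 6, 15, 16, 15, 11, 8, 9, 9, 8, 9, 6, 5, 6, 6, 6]) (.leaf 77 5 [6, 6, 5, 6, 4, 16, 11, 13, 12, 9, 9, 9, 9, 5, 5, 5, 7, 4]))) (.node 61 (.node 60 (.leaf 78 5 [4, 7, 5, 5, 6, 16, 11, 14, 10, 10, 8, 9, 9, 9, 9, 4, 7, 5, 6, 4]) (.leaf 79 4 [6, 4, 7, 7, 5, 5, 15, 16, 14, 8, 9, 9, 8, 9, 8, 9, 8, 9, 9, 8, 10, 4, 4, 6, 6])) (.node 62 (.leaf 80 4 [4, 4, 6, 5, 6, 4, 12, 14, 11, 9, 9, 9, 9, 6, 4, 6, 4]) (.leaf 81 4 [6, 5, 6, 4, 4, 4, 11, 13, 11, 14, 9, 9, 9, 9, 6, 4, 6, 4]))))))) (.node 94 (.node 78 (.node 70 (.node 66 (.node 64 (.leaf 9 5 [6, 6, 6, 6, 6, 6]) (.node 65 (.leaf 24 2 [4, 6, 4, 4, 4, 6, 4, 4, 4, 6, 4, 4,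 4, 6, 4, 4]) (.leaf 82 4 [6, 6, 5, 7, 5, 5, 15, 14, 12, 9, 9, 9, 7, 5, 7, 5]))) (.node 68 (.node 67 (.leaf 83 4 [4, 6, 4, 4, 4, 4, 15, 16, 15, 11, 10, 10, 8, 10, 10, 8, 6, 5, 6, 6]) (.leaf 24 0 [4, 4, 4, 6, 4, 4, 4, 6, 4, 4, 4, 6, 4, 4, 4, 6])) (.node 69 (.leaf 84 4 [4, 6, 6, 4, 7, 7, 16, 15, 11, 11, 10, 10, 10, 8, 10, 7, 7, 4, 7]) (.leaf 85 5 [6, 4, 4, 6, 5, 13, 10, 10, 8, 10, 8, 10, 4, 4, 4, 6, 6])))) (.node 74 (.node 72 (.node 71 (.leaf 86 5 [6, 5, 5, 6, 6, 15, 16, 12, 14, 11, 11, 10, 10, 10, 8, 10, 4, 6, 4, 4, 4]) (.leaf 87 4 [4, 6, 5, 5, 5, 5, 16, 15, 11, 13, 11, 14, 9, 8, 10, 10, 8, 7, 4, 4, 4])) (.node 73 (.leaf 88 5 [4, 6, 5, 6, 5, 15, 16, 13, 11, 11, 8, 9, 8, 9, 4, 6, 4, 6, 4]) (.leaf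 7 3 [4, 4, 4, 4, 4, 4, 4, 4, 4, 4, 4, 4]))) (.node 76 (.node 75 (.leaf 89 5 [6, 4, 7, 4, 4, 16, 15, 14, 12, 9, 9, 9, 9, 4, 4, 7, 5, 5]) (.leaf 90 5 [4, 7, 5, 6, 6, 15, 13, 12, 13, 8, 9, 9, 9, 9, 6, 5, 5, 6, 4])) (.node 77 (.leaf 91 4 [4, 6, 6, 4, 4, 4, 15, 16, 15, 13, 11, 8, 9, 8, 9, 8, 10, 10, 10, 6, 4, 4, 7]) (.leaf 17 9 [4, 6, 6, 4, 6, 6, 4, 6, 6, 4, 6, 6, 4, 6, 6, 4, 6, 6]))))) (.node 86 (.node 82 (.node 80 (.node 79 (.leaf 92 5 [4, 4, 6, 4, 6, 15, 16, 15, 12, 14, 11, 11, 8, 9, 9, 8, 10, 10, 10, 10, 6, 5, 6, 4, 4]) (.leaf 93 5 [6, 4, 4, 4, 7, 16, 11, 14, 11, 10, 10, 8, 9, 9, 9, 9, 4, 4, 7, 4, 6])) (.node 81 (.leaf 29 32 [4, 6, 6, 6, 4, 6, 6, 6, 4, 6, 6, 6, 4, 6, 6, 6, 4, 6, 6, 6, 4, 6, 6,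 6, 4, 6, 6, 6, 4, 6, 6, 6, 4, 6, 6, 6]) (.leaf 94 5 [6, 5, 6, 4, 6, 15, 16, 15, 11, 14, 8, 10, 10, 5, 6, 4, 6, 4]))) (.node 84 (.node 83 (.leaf 95 5 [4, 4, 4, 4, 6, 16, 15, 11, 13, 11, 14, 9, 8, 10, 10, 8, 5, 5, 5, 5, 7]) (.leaf 7 8 [4, 4, 4, 4, 4, 4, 4, 4, 4, 4, 4, 4])) (.node 85 (.leaf 17 16 [6, 6, 4, 6, 6, 4, 6, 6, 4, 6, 6, 4, 6, 6, 4, 6, 6, 4]) (.leaf 24 13 [4, 4, 6, 4, 4, 4, 6, 4, 4, 4, 6, 4, 4, 4, 6, 4])))) (.node 90 (.node 88 (.node 87 (.leaf 96 5 [4, 4, 6, 5, 6, 16, 15, 11, 14, 11, 14, 10, 8, 9, 9, 5, 5, 7, 4, 4]) (.leaf 97 5 [4, 4, 7, 4, 6, 4, 11, 13, 11, 11, 9, 8, 4, 6, 5, 5, 6])) (.node 89 (.leaf 98 5 [6, 5, 5, 6, 5, 7, 12, 14, 11, 11, 10, 8, 10, 8, 7, 5, 5, 7, 5]) (.leaf 13 6 [5,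 6, 5, 6, 5, 6, 5, 6, 5, 6, 5, 6]))) (.node 92 (.node 91 (.leaf 36 7 [7, 5, 6, 5, 7, 5, 6, 5, 7, 5, 6, 5, 7, 5, 6, 5, 7, 5, 6, 5, 7, 5, 6, 5]) (.leaf 31 7 [6, 4, 7, 5, 6, 4, 7, 5, 6, 4, 7, 5, 6, 4, 7, 5, 6, 4, 7, 5])) (.node 93 (.leaf 34 13 [5, 5, 7, 5, 5, 5, 7, 5, 5, 5, 7, 5, 5, 5, 7, 5]) (.leaf 99 5 [4, 7, 7, 4, 4, 6, 16, 11, 13, 10, 10, 8, 10, 8, 10, 8, 9, 6, 6, 5, 5, 6])))))) (.node 110 (.node 102 (.node 98 (.node 96 (.node 95 (.leaf 100 5 [6, 4, 6, 4, 6, 6, 15, 16, 15, 11, 11, 13, 10, 6, 6, 5, 5, 6]) (.leaf 101 5 [6, 5, 5, 7, 5, 6, 11, 11, 13, 9, 8, 10, 10, 8, 10, 10, 8, 9, 6, 6, 5, 7, 5])) (.node 97 (.leaf 102 5 [6, 6, 5, 6, 5, 5, 15, 16, 15, 11, 11, 13, 11, 8, 9, 8, 6, 5, 5, 5, 5]) (.leaf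 13 10 [5, 6, 5, 6, 5, 6, 5, 6, 5, 6, 5, 6]))) (.node 100 (.node 99 (.leaf 50 8 [16, 8, 9, 6, 6, 4, 6, 4, 6, 4, 7]) (.leaf 103 5 [4, 6, 6, 5, 6, 5, 15, 11, 14, 11, 10, 8, 10, 8, 9, 9, 5, 5, 7, 5, 7])) (.node 101 (.leaf 104 5 [6, 4, 7, 5, 7, 4, 16, 15, 11, 14, 11, 10, 10, 10, 8, 5, 6, 4, 6, 5]) (.leaf 31 15 [6, 4, 7, 5, 6, 4, 7, 5, 6, 4, 7, 5, 6, 4, 7, 5, 6, 4, 7, 5])))) (.node 106 (.node 104 (.node 103 (.leaf 105 5 [6, 5, 7, 5, 5, 6, 15, 16, 15, 11, 13, 11, 13, 9, 8, 10, 10, 8, 9, 7, 4, 4, 4, 6]) (.leaf 36 8 [5, 6, 5, 7, 5, 6, 5, 7, 5, 6, 5, 7, 5, 6, 5, 7, 5, 6, 5, 7, 5, 6, 5, 7])) (.node 105 (.leaf 106 5 [6, 5, 5, 6, 4, 4, 16, 15, 11, 13, 11, 11, 9, 9, 9, 9, 7, 7, 5, 7, 4]) (.leaf 107 5 [4,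 4, 6, 4, 4, 6, 15, 16, 13, 11, 8, 10, 8, 6, 4, 7, 5, 6]))) (.node 108 (.node 107 (.leaf 108 5 [6, 6, 4, 6, 5, 7, 15, 16, 15, 11, 13, 11, 11, 8, 10, 8, 9, 9, 9, 6, 4, 7, 5, 6]) (.leaf 109 5 [4, 4, 6, 5, 7, 5, 15, 16, 15, 11, 13, 12, 8, 9, 9, 9, 8, 9, 8, 7, 4, 4, 6, 4])) (.node 109 (.leaf 24 6 [4, 6, 4, 4, 4, 6, 4, 4, 4, 6, 4, 4, 4, 6, 4, 4]) (.leaf 110 5 [6, 6, 4, 6, 5, 6, 15, 16, 15, 13, 10, 10, 8, 9, 9, 9, 9, 4, 4, 6, 6, 4]))))) (.node 118 (.node 114 (.node 112 (.node 111 (.leaf 17 8 [6, 4, 6, 6, 4, 6, 6, 4, 6, 6, 4, 6, 6, 4, 6, 6, 4, 6]) (.leaf 111 5 [4, 4, 6, 4, 7, 7, 15, 16, 15, 13, 11, 11, 8, 9, 7, 7, 4, 6, 4])) (.node 113 (.leaf 24 9 [4, 4, 6, 4, 4, 4, 6, 4, 4, 4, 6, 4, 4, 4, 6, 4]) (.leaf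 112 5 [4, 7, 5, 5, 7, 5, 16, 15, 11, 13, 11, 11, 9, 8, 10, 4, 4, 4, 6, 4]))) (.node 116 (.node 115 (.leaf 113 5 [6, 6, 4, 7, 4, 7, 15, 16, 15, 13, 6, 5, 6, 5, 6]) (.leaf 114 5 [6, 4, 7, 4, 4, 4, 15, 16, 11, 13, 10, 10, 8, 10, 10, 8, 9, 4, 6, 5, 5, 5])) (.node 117 (.leaf 115 5 [4, 7, 4, 6, 5, 6, 15, 16, 15, 12, 14, 10, 8, 9, 9, 8, 9, 9, 7, 5, 7, 5, 7]) (.leaf 25 1 [4, 4, 7, 4, 4, 4, 7, 4, 4, 4, 7, 4, 4, 4, 7, 4, 4, 4, 7, 4])))) (.node 122 (.node 120 (.node 119 (.leaf 116 5 [6, 5, 6, 5, 7, 7, 15, 16, 13, 12, 13, 8, 9, 9, 9, 6, 5, 6, 6, 5]) (.leaf 13 8 [5, 6, 5, 6, 5, 6, 5, 6, 5, 6, 5, 6])) (.node 121 (.leaf 117 5 [4, 6, 4, 7, 7, 7, 16, 15, 11, 13, 11, 14, 10, 10, 10, 8, 10, 6, 5, 7, 4, 7]) (.leaf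 118 5 [4, 6, 4, 7, 4, 7, 15, 16, 15, 8, 9, 9, 8, 9, 9, 4, 4, 7, 4, 7]))) (.node 124 (.node 123 (.leaf 7 1 [4, 4, 4, 4, 4, 4, 4, 4, 4, 4, 4, 4]) (.leaf 12 2 [4, 7, 4, 7, 4, 7, 4, 7, 4, 7, 4, 7])) (.node 125 (.leaf 119 5 [4, 6, 4, 4, 7, 4, 12, 9, 8, 10, 10, 8, 9, 9, 8, 10, 6, 6, 5, 5, 7]) (.leaf 120 5 [4, 4, 6, 5, 5, 5, 11, 11, 13, 8, 9, 9, 8, 9, 8, 9, 8, 9, 9, 8, 10, 4, 4, 4, 7, 7])))))))) (.node 189 (.node 157 (.node 141 (.node 133 (.node 129 (.node 127 (.leaf 121 5 [6, 6, 4, 7, 7, 7, 8, 6, 6, 6, 5, 6]) (.node 128 (.leaf 121 11 [8, 6, 6, 6, 5, 6, 6, 6, 4, 7, 7, 7]) (.leaf 121 9 [7, 7, 8, 6, 6, 6, 5, 6, 6, 6, 4, 7]))) (.node 131 (.node 130 (.leaf 121 4 [6, 6, 6, 4, 7, 7, 7, 8, 6, 6, 6, 5]) (.leaf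 121 6 [6, 4, 7, 7, 7, 8, 6, 6, 6, 5, 6, 6])) (.node 132 (.leaf 121 7 [4, 7, 7, 7, 8, 6, 6, 6, 5, 6, 6, 6]) (.leaf 121 3 [5, 6, 6, 6, 4, 7, 7, 7, 8, 6, 6, 6])))) (.node 137 (.node 135 (.node 134 (.leaf 121 8 [7, 7, 7, 8, 6, 6, 6, 5, 6, 6, 6, 4]) (.leaf 121 10 [7, 8, 6, 6, 6, 5, 6, 6, 6, 4, 7, 7])) (.node 136 (.leaf 121 1 [6, 6, 5, 6, 6, 6, 4, 7, 7, 7, 8, 6]) (.leaf 121 2 [6, 5, 6, 6, 6, 4, 7, 7, 7, 8, 6, 6]))) (.node 139 (.node 138 (.leaf 17 0 [4, 6, 6, 4, 6, 6, 4, 6, 6, 4, 6, 6, 4, 6, 6, 4, 6, 6]) (.leaf 122 5 [4, 7, 5, 7, 4, 7, 16, 14, 10, 10, 8, 5, 7, 4, 6, 6])) (.node 140 (.leaf 123 5 [4, 7, 5, 6, 4, 4, 12, 14, 12, 8, 9, 9, 8, 9, 9, 8, 7, 7, 4, 4, 4]) (.leaf 24 3 [6, 4, 4, 4, 6, 4, 4, 4,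 6, 4, 4, 4, 6, 4, 4, 4]))))) (.node 149 (.node 145 (.node 143 (.node 142 (.leaf 85 10 [13, 10, 10, 8, 10, 8, 10, 4, 4, 4, 6, 6, 6, 4, 4, 6, 5]) (.leaf 9 1 [6, 6, 6, 6, 6, 6])) (.node 144 (.leaf 124 5 [6, 4, 4, 4, 4, 4, 11, 13, 12, 14, 10, 10, 8, 10, 8, 9, 6, 5, 5, 7, 4]) (.leaf 50 9 [8, 9, 6, 6, 4, 6, 4, 6, 4, 7, 16]))) (.node 147 (.node 146 (.leaf 17 5 [6, 4, 6, 6, 4, 6, 6, 4, 6, 6, 4, 6, 6, 4, 6, 6, 4, 6]) (.leaf 21 10 [6, 6, 5, 6, 6, 5, 6, 6, 5, 6, 6, 5, 6, 6, 5, 6, 6, 5, 6, 6, 5, 6, 6, 5, 6, 6, 5])) (.node 148 (.leaf 1 3 [6, 4, 8, 5, 6, 6]) (.leaf 13 2 [5, 6, 5, 6, 5, 6, 5, 6, 5, 6, 5, 6])))) (.node 153 (.node 151 (.node 150 (.leaf 28 17 [6, 5, 7, 4, 6, 5, 7, 4, 6, 5, 7, 4, 6, 5, 7, 4, 6,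 5, 7, 4]) (.leaf 1 0 [5, 6, 6, 6, 4, 8])) (.node 152 (.leaf 125 5 [6, 4, 4, 6, 4, 4, 16, 13, 12, 9, 9, 9, 6, 5, 6, 4, 4]) (.leaf 13 4 [5, 6, 5, 6, 5, 6, 5, 6, 5, 6, 5, 6]))) (.node 155 (.node 154 (.leaf 17 3 [4, 6, 6, 4, 6, 6, 4, 6, 6, 4, 6, 6, 4, 6, 6, 4, 6, 6]) (.leaf 31 13 [7, 5, 6, 4, 7, 5, 6, 4, 7, 5, 6, 4, 7, 5, 6, 4, 7, 5, 6, 4])) (.node 156 (.leaf 35 13 [5, 6, 6, 5, 5, 6, 6, 5, 5, 6, 6, 5, 5, 6, 6, 5, 5, 6, 6, 5, 5, 6, 6, 5]) (.leaf 50 10 [9, 6, 6, 4, 6, 4, 6, 4, 7, 16, 8])))))) (.node 173 (.node 165 (.node 161 (.node 159 (.node 158 (.leaf 71 10 [15, 9, 8, 10, 10, 8, 9, 5, 5, 5, 5, 6, 4, 7, 4, 4, 7]) (.leaf 34 3 [7, 5, 5, 5, 7, 5, 5, 5, 7, 5, 5, 5, 7, 5, 5, 5])) (.node 160 (.leaf 2 3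 [6, 5, 7, 4, 4, 10, 4, 7, 4]) (.leaf 10 2 [7, 7, 7, 7, 7, 7]))) (.node 163 (.node 162 (.leaf 17 15 [4, 6, 6, 4, 6, 6, 4, 6, 6, 4, 6, 6, 4, 6, 6, 4, 6, 6]) (.leaf 33 10 [5, 6, 5, 5, 5, 6, 5, 5, 5, 6, 5, 5, 5, 6, 5, 5, 5, 6, 5, 5])) (.node 164 (.leaf 12 5 [7, 4, 7, 4, 7, 4, 7, 4, 7, 4, 7, 4]) (.leaf 22 4 [7, 7, 5, 7, 7, 5, 7, 7, 5, 7, 7, 5, 7, 7, 5, 7, 7, 5])))) (.node 169 (.node 167 (.node 166 (.leaf 10 5 [7, 7, 7, 7, 7, 7]) (.leaf 126 5 [4, 4, 6, 4, 6, 6, 15, 16, 15, 14, 11, 10, 8, 10, 8, 9, 9, 4, 4, 7, 7, 4])) (.node 168 (.leaf 127 5 [4, 6, 4, 4, 7, 7, 15, 16, 15, 11, 14, 11, 14, 8, 9, 8, 9, 9, 5, 6, 4, 6, 4]) (.leaf 24 12 [4, 4, 4, 6, 4, 4, 4, 6, 4, 4, 4, 6, 4, 4, 4, 6]))) (.node 171 (.node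 170 (.leaf 27 23 [7, 4, 6, 4, 7, 4, 6, 4, 7, 4, 6, 4, 7, 4, 6, 4, 7, 4, 6, 4, 7, 4, 6, 4]) (.leaf 30 6 [4, 7, 4, 7, 4, 7, 4, 7, 4, 7, 4, 7])) (.node 172 (.leaf 19 20 [6, 5, 5, 6, 5, 5, 6, 5, 5, 6, 5, 5, 6, 5, 5, 6, 5, 5, 6, 5, 5, 6, 5, 5, 6, 5, 5]) (.leaf 17 10 [6, 6, 4, 6, 6, 4, 6, 6, 4, 6, 6, 4, 6, 6, 4, 6, 6, 4]))))) (.node 181 (.node 177 (.node 175 (.node 174 (.leaf 8 1 [5, 5, 5, 5, 5, 5, 5, 5, 5, 5, 5, 5]) (.leaf 128 5 [6, 6, 5, 5, 7, 7, 16, 15, 12, 14, 11, 10, 10, 8, 10, 8, 10, 8, 9, 7, 5, 5, 6, 4])) (.node 176 (.leaf 129 5 [4, 7, 7, 4, 4, 4, 16, 13, 12, 13, 9, 8, 10, 10, 8, 10, 10, 7, 4, 6, 4, 4]) (.leaf 7 2 [4, 4, 4, 4, 4, 4, 4, 4, 4, 4, 4, 4]))) (.node 179 (.node 178 (.leaf 25 6 [4,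 7, 4, 4, 4, 7, 4, 4, 4, 7, 4, 4, 4, 7, 4, 4, 4, 7, 4, 4]) (.leaf 24 4 [4, 4, 4, 6, 4, 4, 4, 6, 4, 4, 4, 6, 4, 4, 4, 6])) (.node 180 (.leaf 7 5 [4, 4, 4, 4, 4, 4, 4, 4, 4, 4, 4, 4]) (.leaf 25 17 [4, 4, 7, 4, 4, 4, 7, 4, 4, 4, 7, 4, 4, 4, 7, 4, 4, 4, 7, 4])))) (.node 185 (.node 183 (.node 182 (.leaf 25 0 [4, 4, 4, 7, 4, 4, 4, 7, 4, 4, 4, 7, 4, 4, 4, 7, 4, 4, 4, 7]) (.leaf 16 18 [4, 4, 7, 4, 4, 7, 4, 4, 7, 4, 4, 7, 4, 4, 7, 4, 4, 7, 4, 4, 7, 4, 4, 7, 4, 4, 7])) (.node 184 (.leaf 24 8 [4, 4, 4, 6, 4, 4, 4, 6, 4, 4, 4, 6, 4, 4, 4, 6]) (.leaf 2 5 [7, 4, 4, 10, 4, 7, 4, 6, 5]))) (.node 187 (.node 186 (.leaf 12 4 [4, 7, 4, 7, 4, 7, 4, 7, 4, 7, 4, 7]) (.leaf 31 2 [5, 6, 4, 7, 5, 6, 4, 7, 5, 6, 4, 7,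 5, 6, 4, 7, 5, 6, 4, 7])) (.node 188 (.leaf 32 2 [7, 7, 4, 7, 7, 7, 4, 7, 7, 7, 4, 7, 7, 7, 4, 7, 7, 7, 4, 7, 7, 7, 4, 7, 7, 7, 4, 7, 7, 7, 4, 7, 7, 7, 4, 7]) (.leaf 21 0 [5, 6, 6, 5, 6, 6, 5, 6, 6, 5, 6, 6, 5, 6, 6, 5, 6, 6, 5, 6, 6, 5, 6, 6, 5, 6, 6]))))))) (.node 220 (.node 204 (.node 196 (.node 192 (.node 190 (.leaf 18 0 [4, 7, 7, 4, 7, 7, 4, 7, 7, 4, 7, 7, 4, 7, 7, 4, 7, 7, 4, 7, 7, 4, 7, 7, 4, 7, 7]) (.node 191 (.leaf 27 4 [4, 6, 4, 7, 4, 6, 4, 7, 4, 6, 4, 7, 4, 6, 4, 7, 4, 6, 4, 7, 4, 6, 4, 7]) (.leaf 50 6 [4, 7, 16, 8, 9, 6, 6, 4, 6, 4, 6]))) (.node 194 (.node 193 (.leaf 130 5 [6, 5, 5, 6, 4, 7, 15, 16, 15, 11, 13, 10, 10, 10, 8, 7, 5, 5, 6, 5]) (.leaf 13 5 [6, 5, 6, 5, 6, 5, 6, 5, 6,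 5, 6, 5])) (.node 195 (.leaf 21 4 [6, 6, 5, 6, 6, 5, 6, 6, 5, 6, 6, 5, 6, 6, 5, 6, 6, 5, 6, 6, 5, 6, 6, 5, 6, 6, 5]) (.leaf 33 0 [5, 5, 5, 6, 5, 5, 5, 6, 5, 5, 5, 6, 5, 5, 5, 6, 5, 5, 5, 6])))) (.node 200 (.node 198 (.node 197 (.leaf 34 8 [5, 5, 5, 7, 5, 5, 5, 7, 5, 5, 5, 7, 5, 5, 5, 7]) (.leaf 8 10 [5, 5, 5, 5, 5, 5, 5, 5, 5, 5, 5, 5])) (.node 199 (.leaf 21 21 [5, 6, 6, 5, 6, 6, 5, 6, 6, 5, 6, 6, 5, 6, 6, 5, 6, 6, 5, 6, 6, 5, 6, 6, 5, 6, 6]) (.leaf 21 9 [5, 6, 6, 5, 6, 6, 5, 6, 6, 5, 6, 6, 5, 6, 6, 5, 6, 6, 5, 6, 6, 5, 6, 6, 5, 6, 6]))) (.node 202 (.node 201 (.leaf 36 17 [6, 5, 7, 5, 6, 5, 7, 5, 6, 5, 7, 5, 6, 5, 7, 5, 6, 5, 7, 5, 6, 5, 7, 5]) (.leaf 34 12 [5, 5, 5, 7, 5, 5, 5, 7, 5, 5, 5,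 7, 5, 5, 5, 7])) (.node 203 (.leaf 31 4 [4, 7, 5, 6, 4, 7, 5, 6, 4, 7, 5, 6, 4, 7, 5, 6, 4, 7, 5, 6]) (.leaf 37 1 [6, 6, 6, 5, 6, 6, 6, 5, 6, 6, 6, 5, 6, 6, 6, 5, 6, 6, 6, 5, 6, 6, 6, 5, 6, 6, 6, 5, 6, 6, 6, 5, 6, 6, 6, 5]))))) (.node 212 (.node 208 (.node 206 (.node 205 (.leaf 16 6 [4, 4, 7, 4, 4, 7, 4, 4, 7, 4, 4, 7, 4, 4, 7, 4, 4, 7, 4, 4, 7, 4, 4, 7, 4, 4, 7]) (.leaf 22 3 [5, 7, 7, 5, 7, 7, 5, 7, 7, 5, 7, 7, 5, 7, 7, 5, 7, 7])) (.node 207 (.leaf 26 4 [4, 4, 7, 7, 4, 4, 7, 7, 4, 4, 7, 7, 4, 4, 7, 7, 4, 4, 7, 7, 4, 4, 7, 7]) (.leaf 26 13 [4, 7, 7, 4, 4, 7, 7, 4, 4, 7, 7, 4, 4, 7, 7, 4, 4, 7, 7, 4, 4, 7, 7, 4]))) (.node 210 (.node 209 (.leaf 21 16 [6, 6, 5, 6, 6, 5, 6, 6, 5, 6, 6, 5, 6, 6,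 5, 6, 6, 5, 6, 6, 5, 6, 6, 5, 6, 6, 5]) (.leaf 28 4 [4, 6, 5, 7, 4, 6, 5, 7, 4, 6, 5, 7, 4, 6, 5, 7, 4, 6, 5, 7])) (.node 211 (.leaf 34 2 [5, 7, 5, 5, 5, 7, 5, 5, 5, 7, 5, 5, 5, 7, 5, 5]) (.leaf 34 9 [5, 5, 7, 5, 5, 5, 7, 5, 5, 5, 7, 5, 5, 5, 7, 5])))) (.node 216 (.node 214 (.node 213 (.leaf 58 9 [12, 10, 10, 8, 10, 8, 10, 10, 5, 7, 5, 6, 6, 5, 5, 6, 5]) (.leaf 33 11 [6, 5, 5, 5, 6, 5, 5, 5, 6, 5, 5, 5, 6, 5, 5, 5, 6, 5, 5, 5])) (.node 215 (.leaf 122 12 [14, 10, 10, 8, 5, 7, 4, 6, 6, 4, 7, 5, 7, 4, 7, 16]) (.leaf 42 7 [16, 13, 11, 11, 10, 8, 10, 8, 9, 9, 9, 6, 4, 6, 6, 6, 5, 7]))) (.node 218 (.node 217 (.leaf 43 7 [15, 16, 13, 12, 13, 8, 10, 8, 9, 9, 7, 4, 6, 6, 6, 5, 6]) (.leaf 48 6 [4, 6,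 16, 15, 11, 11, 10, 10, 10, 8, 10, 6, 4, 7, 4, 6, 6])) (.node 219 (.leaf 71 4 [6, 4, 7, 4, 4, 7, 15, 9, 8, 10, 10, 8, 9, 5, 5, 5, 5]) (.leaf 72 3 [4, 6, 4, 6, 4, 4, 4, 11, 13, 10, 8, 9, 9, 5, 7, 4])))))) (.node 236 (.node 228 (.node 224 (.node 222 (.node 221 (.leaf 74 6 [6, 4, 6, 5, 15, 16, 15, 11, 14, 8, 10, 10, 6, 4, 6, 5, 6, 4]) (.leaf 79 5 [4, 7, 7, 5, 5, 15, 16, 14, 8, 9, 9, 8, 9, 8, 9, 8, 9, 9, 8, 10, 4, 4, 6, 6, 6])) (.node 223 (.leaf 91 5 [6, 6, 4, 4, 4, 15, 16, 15, 13, 11, 8, 9, 8, 9, 8, 10, 10, 10, 6, 4, 4, 7, 4]) (.leaf 95 7 [4, 4, 6, 16, 15, 11, 13, 11, 14, 9, 8, 10, 10, 8, 5, 5, 5, 5, 7, 4, 4]))) (.node 226 (.node 225 (.leaf 98 3 [7, 5, 6, 5, 5, 6, 5, 7, 12, 14, 11, 11, 10, 8, 10,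 8, 7, 5, 5]) (.leaf 101 2 [5, 7, 5, 6, 5, 5, 7, 5, 6, 11, 11, 13, 9, 8, 10, 10, 8, 10, 10, 8, 9, 6, 6])) (.node 227 (.leaf 124 6 [4, 4, 4, 4, 4, 11, 13, 12, 14, 10, 10, 8, 10, 8, 9, 6, 5, 5, 7, 4, 6]) (.leaf 127 7 [4, 4, 7, 7, 15, 16, 15, 11, 14, 11, 14, 8, 9, 8, 9, 9, 5, 6, 4, 6, 4, 4, 6])))) (.node 232 (.node 230 (.node 229 (.leaf 31 11 [6, 4, 7, 5, 6, 4, 7, 5, 6, 4, 7, 5, 6, 4, 7, 5, 6, 4, 7, 5]) (.leaf 36 18 [5, 7, 5, 6, 5, 7, 5, 6, 5, 7, 5, 6, 5, 7, 5, 6, 5, 7, 5, 6, 5, 7, 5, 6])) (.node 231 (.leaf 36 0 [5, 6, 5, 7, 5, 6, 5, 7, 5, 6, 5, 7, 5, 6, 5, 7, 5, 6, 5, 7, 5, 6, 5, 7]) (.leaf 85 16 [10, 4, 4, 4, 6, 6, 6, 4, 4, 6, 5, 13, 10, 10, 8, 10, 8]))) (.node 234 (.node 233 (.leaf 27 22 [4,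 7, 4, 6, 4, 7, 4, 6, 4, 7, 4, 6, 4, 7, 4, 6, 4, 7, 4, 6, 4, 7, 4, 6]) (.leaf 119 11 [12, 9, 8, 10, 10, 8, 9, 9, 8, 10, 6, 6, 5, 5, 7, 4, 6, 4, 4, 7, 4])) (.node 235 (.leaf 16 3 [4, 4, 7, 4, 4, 7, 4, 4, 7, 4, 4, 7, 4, 4, 7, 4, 4, 7, 4, 4, 7, 4, 4, 7, 4, 4, 7]) (.leaf 27 15 [7, 4, 6, 4, 7, 4, 6, 4, 7, 4, 6, 4, 7, 4, 6, 4, 7, 4, 6, 4, 7, 4, 6, 4]))))) (.node 244 (.node 240 (.node 238 (.node 237 (.leaf 33 2 [5, 6, 5, 5, 5, 6, 5, 5, 5, 6, 5, 5, 5, 6, 5, 5, 5, 6, 5, 5]) (.leaf 31 17 [7, 5, 6, 4, 7, 5, 6, 4, 7, 5, 6, 4, 7, 5, 6, 4, 7, 5, 6, 4])) (.node 239 (.leaf 66 4 [5, 6, 6, 4, 4, 6, 11, 14, 12, 9, 8, 10, 10, 8, 9, 9, 8, 10, 7, 4, 4, 7]) (.leaf 34 11 [7, 5, 5, 5, 7, 5, 5, 5, 7, 5, 5, 5, 7, 5, 5,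 5]))) (.node 242 (.node 241 (.leaf 35 7 [6, 5, 5, 6, 6, 5, 5, 6, 6, 5, 5, 6, 6, 5, 5, 6, 6, 5, 5, 6, 6, 5, 5, 6]) (.leaf 13 1 [6, 5, 6, 5, 6, 5, 6, 5, 6, 5, 6, 5])) (.node 243 (.leaf 19 12 [5, 5, 6, 5, 5, 6, 5, 5, 6, 5, 5, 6, 5, 5, 6, 5, 5, 6, 5, 5, 6, 5, 5, 6, 5, 5, 6]) (.leaf 35 11 [6, 5, 5, 6, 6, 5, 5, 6, 6, 5, 5, 6, 6, 5, 5, 6, 6, 5, 5, 6, 6, 5, 5, 6])))) (.node 248 (.node 246 (.node 245 (.leaf 33 3 [6, 5, 5, 5, 6, 5, 5, 5, 6, 5, 5, 5, 6, 5, 5, 5, 6, 5, 5, 5]) (.leaf 16 0 [4, 4, 7, 4, 4, 7, 4, 4, 7, 4, 4, 7, 4, 4, 7, 4, 4, 7, 4, 4, 7, 4, 4, 7, 4, 4, 7])) (.node 247 (.leaf 41 6 [5, 12, 9, 8, 10, 10, 8, 9, 9, 8, 10, 6, 4, 4, 6, 4, 7]) (.leaf 25 10 [4, 7, 4, 4, 4, 7, 4, 4, 4, 7, 4, 4, 4, 7,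 4, 4, 4, 7, 4, 4]))) (.node 250 (.node 249 (.leaf 31 18 [5, 6, 4, 7, 5, 6, 4, 7, 5, 6, 4, 7, 5, 6, 4, 7, 5, 6, 4, 7]) (.leaf 24 15 [6, 4, 4, 4, 6, 4, 4, 4, 6, 4, 4, 4, 6, 4, 4, 4])) (.node 251 (.leaf 24 11 [6, 4, 4, 4, 6, 4, 4, 4, 6, 4, 4, 4, 6, 4, 4, 4]) (.leaf 8 6 [5, 5, 5, 5, 5, 5, 5, 5, 5, 5, 5, 5]))))))))) (.node 378 (.node 315 (.node 283 (.node 267 (.node 259 (.node 255 (.node 253 (.leaf 31 14 [5, 6, 4, 7, 5, 6, 4, 7, 5, 6, 4, 7, 5, 6, 4, 7, 5, 6, 4, 7]) (.node 254 (.leaf 11 12 [4, 6, 4, 6, 4, 6, 4, 6, 4, 6, 4, 6, 4, 6, 4, 6, 4, 6, 4, 6, 4, 6, 4, 6]) (.leaf 16 16 [4, 7, 4, 4, 7, 4, 4, 7, 4, 4, 7, 4, 4, 7, 4, 4, 7, 4, 4, 7, 4, 4, 7, 4, 4, 7, 4]))) (.node 257 (.node 256 (.leaf 25 14 [4,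 7, 4, 4, 4, 7, 4, 4, 4, 7, 4, 4, 4, 7, 4, 4, 4, 7, 4, 4]) (.leaf 26 3 [7, 4, 4, 7, 7, 4, 4, 7, 7, 4, 4, 7, 7, 4, 4, 7, 7, 4, 4, 7, 7, 4, 4, 7])) (.node 258 (.leaf 38 10 [7, 7, 5, 7, 7, 7, 5, 7, 7, 7, 5, 7, 7, 7, 5, 7, 7, 7, 5, 7, 7, 7, 5, 7, 7, 7, 5, 7, 7, 7, 5, 7, 7, 7, 5, 7]) (.leaf 21 26 [6, 5, 6, 6, 5, 6, 6, 5, 6, 6, 5, 6, 6, 5, 6, 6, 5, 6, 6, 5, 6, 6, 5, 6, 6, 5, 6])))) (.node 263 (.node 261 (.node 260 (.leaf 17 6 [4, 6, 6, 4, 6, 6, 4, 6, 6, 4, 6, 6, 4, 6, 6, 4, 6, 6]) (.leaf 31 6 [5, 6, 4, 7, 5, 6, 4, 7, 5, 6, 4, 7, 5, 6, 4, 7, 5, 6, 4, 7])) (.node 262 (.leaf 35 20 [5, 5, 6, 6, 5, 5, 6, 6, 5, 5, 6, 6, 5, 5, 6, 6, 5, 5, 6, 6, 5, 5, 6, 6]) (.leaf 14 4 [5, 7, 5, 7, 5, 7, 5, 7, 5, 7, 5, 7,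 5, 7, 5, 7, 5, 7, 5, 7, 5, 7, 5, 7]))) (.node 265 (.node 264 (.leaf 25 4 [4, 4, 4, 7, 4, 4, 4, 7, 4, 4, 4, 7, 4, 4, 4, 7, 4, 4, 4, 7]) (.leaf 55 9 [14, 11, 10, 8, 10, 8, 4, 4, 7, 4, 4, 7, 4, 6, 5])) (.node 266 (.leaf 125 13 [12, 9, 9, 9, 6, 5, 6, 4, 4, 6, 4, 4, 6, 4, 4, 16, 13]) (.leaf 31 5 [7, 5, 6, 4, 7, 5, 6, 4, 7, 5, 6, 4, 7, 5, 6, 4, 7, 5, 6, 4]))))) (.node 275 (.node 271 (.node 269 (.node 268 (.leaf 29 4 [4, 6, 6, 6, 4, 6, 6, 6, 4, 6, 6, 6, 4, 6, 6, 6, 4, 6, 6, 6, 4, 6, 6, 6, 4, 6, 6, 6, 4, 6, 6, 6, 4, 6, 6, 6]) (.leaf 121 0 [6, 6, 6, 5, 6, 6, 6, 4, 7, 7, 7, 8])) (.node 270 (.leaf 8 7 [5, 5, 5, 5, 5, 5, 5, 5, 5, 5, 5, 5]) (.leaf 28 0 [4, 6, 5, 7, 4, 6, 5, 7, 4, 6, 5, 7, 4, 6, 5, 7, 4,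 6, 5, 7]))) (.node 273 (.node 272 (.leaf 3 5 [9, 9, 9, 9, 12, 9, 8, 9, 9, 8]) (.leaf 41 7 [12, 9, 8, 10, 10, 8, 9, 9, 8, 10, 6, 4, 4, 6, 4, 7, 5])) (.node 274 (.leaf 35 18 [6, 6, 5, 5, 6, 6, 5, 5, 6, 6, 5, 5, 6, 6, 5, 5, 6, 6, 5, 5, 6, 6, 5, 5]) (.leaf 7 10 [4, 4, 4, 4, 4, 4, 4, 4, 4, 4, 4, 4])))) (.node 279 (.node 277 (.node 276 (.leaf 12 10 [4, 7, 4, 7, 4, 7, 4, 7, 4, 7, 4, 7]) (.leaf 15 35 [6, 4, 4, 6, 4, 4, 6, 4, 4, 6, 4, 4, 6, 4, 4, 6, 4, 4, 6, 4, 4, 6, 4, 4, 6, 4, 4, 6, 4, 4, 6, 4, 4, 6, 4, 4])) (.node 278 (.leaf 16 26 [7, 4, 4, 7, 4, 4, 7, 4, 4, 7, 4, 4, 7, 4, 4, 7, 4, 4, 7, 4, 4, 7, 4, 4, 7, 4, 4]) (.leaf 18 16 [7, 7, 4, 7, 7, 4, 7, 7, 4, 7, 7, 4, 7, 7, 4, 7, 7, 4, 7, 7, 4, 7, 7, 4,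 7, 7, 4]))) (.node 281 (.node 280 (.leaf 26 15 [7, 4, 4, 7, 7, 4, 4, 7, 7, 4, 4, 7, 7, 4, 4, 7, 7, 4, 4, 7, 7, 4, 4, 7]) (.leaf 32 30 [7, 7, 4, 7, 7, 7, 4, 7, 7, 7, 4, 7, 7, 7, 4, 7, 7, 7, 4, 7, 7, 7, 4, 7, 7, 7, 4, 7, 7, 7, 4, 7, 7, 7, 4, 7])) (.node 282 (.leaf 72 10 [11, 13, 10, 8, 9, 9, 5, 7, 4, 4, 6, 4, 6, 4, 4, 4]) (.leaf 60 5 [7, 4, 7, 7, 16, 15, 14, 10, 10, 10, 5, 6, 5, 7, 4])))))) (.node 299 (.node 291 (.node 287 (.node 285 (.node 284 (.leaf 25 5 [4, 4, 7, 4, 4, 4, 7, 4, 4, 4, 7, 4, 4, 4, 7, 4, 4, 4, 7, 4]) (.leaf 31 12 [4, 7, 5, 6, 4, 7, 5, 6, 4, 7, 5, 6, 4, 7, 5, 6, 4, 7, 5, 6])) (.node 286 (.leaf 45 8 [15, 13, 10, 10, 8, 10, 10, 8, 9, 4, 7, 4, 4, 4, 7, 5, 6]) (.leaf 104 15 [11, 10,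 10, 10, 8, 5, 6, 4, 6, 5, 6, 4, 7, 5, 7, 4, 16, 15, 11, 14]))) (.node 289 (.node 288 (.leaf 19 26 [6, 5, 5, 6, 5, 5, 6, 5, 5, 6, 5, 5, 6, 5, 5, 6, 5, 5, 6, 5, 5, 6, 5, 5, 6, 5, 5]) (.leaf 33 4 [5, 5, 5, 6, 5, 5, 5, 6, 5, 5, 5, 6, 5, 5, 5, 6, 5, 5, 5, 6])) (.node 290 (.leaf 37 6 [6, 6, 5, 6, 6, 6, 5, 6, 6, 6, 5, 6, 6, 6, 5, 6, 6, 6, 5, 6, 6, 6, 5, 6, 6, 6, 5, 6, 6, 6, 5, 6, 6, 6, 5, 6]) (.leaf 24 10 [4, 6, 4, 4, 4, 6, 4, 4, 4, 6, 4, 4, 4, 6, 4, 4])))) (.node 295 (.node 293 (.node 292 (.leaf 16 15 [4, 4, 7, 4, 4, 7, 4, 4, 7, 4, 4, 7, 4, 4, 7, 4, 4, 7, 4, 4, 7, 4, 4, 7, 4, 4, 7]) (.leaf 12 11 [7, 4, 7, 4, 7, 4, 7, 4, 7, 4, 7, 4])) (.node 294 (.leaf 16 21 [4, 4, 7, 4, 4, 7, 4, 4, 7, 4, 4, 7, 4,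 4, 7, 4, 4, 7, 4, 4, 7, 4, 4, 7, 4, 4, 7]) (.leaf 27 2 [4, 7, 4, 6, 4, 7, 4, 6, 4, 7, 4, 6, 4, 7, 4, 6, 4, 7, 4, 6, 4, 7, 4, 6]))) (.node 297 (.node 296 (.leaf 14 14 [5, 7, 5, 7, 5, 7, 5, 7, 5, 7, 5, 7, 5, 7, 5, 7, 5, 7, 5, 7, 5, 7, 5, 7]) (.leaf 26 20 [4, 4, 7, 7, 4, 4, 7, 7, 4, 4, 7, 7, 4, 4, 7, 7, 4, 4, 7, 7, 4, 4, 7, 7])) (.node 298 (.leaf 123 11 [12, 14, 12, 8, 9, 9, 8, 9, 9, 8, 7, 7, 4, 4, 4, 4, 7, 5, 6, 4, 4]) (.leaf 15 32 [6, 4, 4, 6, 4, 4, 6, 4, 4, 6, 4, 4, 6, 4, 4, 6, 4, 4, 6, 4, 4, 6, 4, 4, 6, 4, 4, 6, 4, 4, 6, 4, 4, 6, 4, 4]))))) (.node 307 (.node 303 (.node 301 (.node 300 (.leaf 99 11 [16, 11, 13, 10, 10, 8, 10, 8, 10, 8, 9, 6, 6, 5, 5, 6, 4, 7, 7, 4, 4, 6]) (.leaf 114 11 [15, 16,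 11, 13, 10, 10, 8, 10, 10, 8, 9, 4, 6, 5, 5, 5, 6, 4, 7, 4, 4, 4])) (.node 302 (.leaf 99 12 [11, 13, 10, 10, 8, 10, 8, 10, 8, 9, 6, 6, 5, 5, 6, 4, 7, 7, 4, 4, 6, 16]) (.leaf 4 5 [9, 9, 8, 9, 8, 9, 14, 8, 9, 8, 9, 8]))) (.node 305 (.node 304 (.leaf 13 3 [6, 5, 6, 5, 6, 5, 6, 5, 6, 5, 6, 5]) (.leaf 19 15 [5, 5, 6, 5, 5, 6, 5, 5, 6, 5, 5, 6, 5, 5, 6, 5, 5, 6, 5, 5, 6, 5, 5, 6, 5, 5, 6])) (.node 306 (.leaf 33 8 [5, 5, 5, 6, 5, 5, 5, 6, 5, 5, 5, 6, 5, 5, 5, 6, 5, 5, 5, 6]) (.leaf 37 16 [5, 6, 6, 6, 5, 6, 6, 6, 5, 6, 6, 6, 5, 6, 6, 6, 5, 6, 6, 6, 5, 6, 6, 6, 5, 6, 6, 6, 5, 6, 6, 6, 5, 6, 6, 6])))) (.node 311 (.node 309 (.node 308 (.leaf 28 14 [5, 7, 4, 6, 5, 7, 4, 6, 5, 7, 4, 6, 5, 7, 4, 6, 5, 7,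 4, 6]) (.leaf 33 1 [5, 5, 6, 5, 5, 5, 6, 5, 5, 5, 6, 5, 5, 5, 6, 5, 5, 5, 6, 5])) (.node 310 (.leaf 69 10 [16, 14, 12, 14, 8, 9, 8, 9, 7, 5, 6, 6, 6, 5, 7, 5, 6, 4]) (.leaf 31 10 [5, 6, 4, 7, 5, 6, 4, 7, 5, 6, 4, 7, 5, 6, 4, 7, 5, 6, 4, 7]))) (.node 313 (.node 312 (.leaf 10 1 [7, 7, 7, 7, 7, 7]) (.leaf 36 20 [5, 6, 5, 7, 5, 6, 5, 7, 5, 6, 5, 7, 5, 6, 5, 7, 5, 6, 5, 7, 5, 6, 5, 7])) (.node 314 (.leaf 26 19 [7, 4, 4, 7, 7, 4, 4, 7, 7, 4, 4, 7, 7, 4, 4, 7, 7, 4, 4, 7, 7, 4, 4, 7]) (.leaf 99 2 [5, 5, 6, 4, 7, 7, 4, 4, 6, 16, 11, 13, 10, 10, 8, 10, 8, 10, 8, 9, 6, 6]))))))) (.node 346 (.node 330 (.node 322 (.node 318 (.node 316 (.leaf 122 14 [10, 8, 5, 7, 4, 6, 6, 4, 7, 5, 7, 4, 7, 16, 14, 10]) (.node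 317 (.leaf 56 11 [15, 11, 9, 8, 10, 10, 5, 7, 4, 7, 4, 6, 4, 4, 7, 15, 16]) (.leaf 80 10 [12, 14, 11, 9, 9, 9, 9, 6, 4, 6, 4, 4, 4, 6, 5, 6, 4]))) (.node 320 (.node 319 (.leaf 130 18 [10, 8, 7, 5, 5, 6, 5, 6, 5, 5, 6, 4, 7, 15, 16, 15, 11, 13, 10, 10]) (.leaf 82 13 [9, 9, 9, 7, 5, 7, 5, 6, 6, 5, 7, 5, 5, 15, 14, 12])) (.node 321 (.leaf 89 17 [9, 4, 4, 7, 5, 5, 6, 4, 7, 4, 4, 16, 15, 14, 12, 9, 9, 9]) (.leaf 25 11 [7, 4, 4, 4, 7, 4, 4, 4, 7, 4, 4, 4, 7, 4, 4, 4, 7, 4, 4, 4])))) (.node 326 (.node 324 (.node 323 (.leaf 28 3 [7, 4, 6, 5, 7, 4, 6, 5, 7, 4, 6, 5, 7, 4, 6, 5, 7, 4, 6, 5]) (.leaf 13 9 [6, 5, 6, 5, 6, 5, 6, 5, 6, 5, 6, 5])) (.node 325 (.leaf 33 17 [5, 5, 6, 5, 5, 5, 6, 5, 5, 5, 6, 5,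 5, 5, 6, 5, 5, 5, 6, 5]) (.leaf 34 5 [5, 5, 7, 5, 5, 5, 7, 5, 5, 5, 7, 5, 5, 5, 7, 5]))) (.node 328 (.node 327 (.leaf 60 10 [15, 14, 10, 10, 10, 5, 6, 5, 7, 4, 7, 4, 7, 7, 16]) (.leaf 35 21 [5, 6, 6, 5, 5, 6, 6, 5, 5, 6, 6, 5, 5, 6, 6, 5, 5, 6, 6, 5, 5, 6, 6, 5])) (.node 329 (.leaf 24 7 [6, 4, 4, 4, 6, 4, 4, 4, 6, 4, 4, 4, 6, 4, 4, 4]) (.leaf 16 4 [4, 7, 4, 4, 7, 4, 4, 7, 4, 4, 7, 4, 4, 7, 4, 4, 7, 4, 4, 7, 4, 4, 7, 4, 4, 7, 4]))))) (.node 338 (.node 334 (.node 332 (.node 331 (.leaf 46 8 [15, 16, 15, 13, 10, 8, 9, 9, 4, 7, 4, 4, 6, 4, 6, 4]) (.leaf 110 6 [6, 4, 6, 5, 6, 15, 16, 15, 13, 10, 10, 8, 9, 9, 9, 9, 4, 4, 6, 6, 4, 6])) (.node 333 (.leaf 40 11 [10, 10, 5, 5, 6, 6, 6, 4, 4, 15, 16, 11,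 14]) (.leaf 103 19 [9, 9, 5, 5, 7, 5, 7, 4, 6, 6, 5, 6, 5, 15, 11, 14, 11, 10, 8, 10, 8]))) (.node 336 (.node 335 (.leaf 122 15 [8, 5, 7, 4, 6, 6, 4, 7, 5, 7, 4, 7, 16, 14, 10, 10]) (.leaf 110 20 [9, 9, 4, 4, 6, 6, 4, 6, 6, 4, 6, 5, 6, 15, 16, 15, 13, 10, 10, 8, 9, 9])) (.node 337 (.leaf 76 18 [9, 6, 5, 6, 6, 6, 4, 4, 4, 6, 6, 15, 16, 15, 11, 8, 9, 9, 8]) (.leaf 93 17 [9, 9, 9, 9, 4, 4, 7, 4, 6, 6, 4, 4, 4, 7, 16, 11, 14, 11, 10, 10, 8])))) (.node 342 (.node 340 (.node 339 (.leaf 48 10 [11, 11, 10, 10, 10, 8, 10, 6, 4, 7, 4, 6, 6, 4, 6, 16, 15]) (.leaf 74 3 [5, 6, 4, 6, 4, 6, 5, 15, 16, 15, 11, 14, 8, 10, 10, 6, 4, 6])) (.node 341 (.leaf 78 8 [5, 6, 16, 11, 14, 10, 10, 8, 9, 9, 9, 9, 4, 7, 5,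 6, 4, 4, 7, 5]) (.leaf 94 1 [6, 4, 6, 4, 6, 5, 6, 4, 6, 15, 16, 15, 11, 14, 8, 10, 10, 5]))) (.node 344 (.node 343 (.leaf 57 15 [9, 8, 10, 10, 8, 5, 6, 4, 4, 6, 5, 5, 7, 5, 16, 15, 11, 10, 8, 9]) (.leaf 109 16 [12, 8, 9, 9, 9, 8, 9, 8, 7, 4, 4, 6, 4, 4, 4, 6, 5, 7, 5, 15, 16, 15, 11, 13])) (.node 345 (.leaf 56 12 [11, 9, 8, 10, 10, 5, 7, 4, 7, 4, 6, 4, 4, 7, 15, 16, 15]) (.leaf 66 11 [14, 12, 9, 8, 10, 10, 8, 9, 9, 8, 10, 7, 4, 4, 7, 5, 6, 6, 4, 4, 6, 11])))))) (.node 362 (.node 354 (.node 350 (.node 348 (.node 347 (.leaf 18 17 [7, 4, 7, 7, 4, 7, 7, 4, 7, 7, 4, 7, 7, 4, 7, 7, 4, 7, 7, 4, 7, 7, 4, 7, 7, 4, 7]) (.leaf 60 11 [14, 10, 10, 10, 5, 6, 5, 7, 4, 7, 4, 7, 7, 16, 15])) (.node 349 (.leaf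 76 13 [11, 8, 9, 9, 8, 9, 6, 5, 6, 6, 6, 4, 4, 4, 6, 6, 15, 16, 15]) (.leaf 122 4 [6, 4, 7, 5, 7, 4, 7, 16, 14, 10, 10, 8, 5, 7, 4, 6]))) (.node 352 (.node 351 (.leaf 35 9 [5, 6, 6, 5, 5, 6, 6, 5, 5, 6, 6, 5, 5, 6, 6, 5, 5, 6, 6, 5, 5, 6, 6, 5]) (.leaf 37 22 [6, 6, 5, 6, 6, 6, 5, 6, 6, 6, 5, 6, 6, 6, 5, 6, 6, 6, 5, 6, 6, 6, 5, 6, 6, 6, 5, 6, 6, 6, 5, 6, 6, 6, 5, 6])) (.node 353 (.leaf 60 14 [10, 5, 6, 5, 7, 4, 7, 4, 7, 7, 16, 15, 14, 10, 10]) (.leaf 25 3 [7, 4, 4, 4, 7, 4, 4, 4, 7, 4, 4, 4, 7, 4, 4, 4, 7, 4, 4, 4])))) (.node 358 (.node 356 (.node 355 (.leaf 27 12 [4, 6, 4, 7, 4, 6, 4, 7, 4, 6, 4, 7, 4, 6, 4, 7, 4, 6, 4, 7, 4, 6, 4, 7]) (.leaf 30 3 [7, 4, 7, 4, 7, 4, 7, 4, 7, 4, 7, 4])) (.node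 357 (.leaf 55 14 [8, 4, 4, 7, 4, 4, 7, 4, 6, 5, 14, 11, 10, 8, 10]) (.leaf 35 5 [5, 6, 6, 5, 5, 6, 6, 5, 5, 6, 6, 5, 5, 6, 6, 5, 5, 6, 6, 5, 5, 6, 6, 5]))) (.node 360 (.node 359 (.leaf 21 24 [5, 6, 6, 5, 6, 6, 5, 6, 6, 5, 6, 6, 5, 6, 6, 5, 6, 6, 5, 6, 6, 5, 6, 6, 5, 6, 6]) (.leaf 21 15 [5, 6, 6, 5, 6, 6, 5, 6, 6, 5, 6, 6, 5, 6, 6, 5, 6, 6, 5, 6, 6, 5, 6, 6, 5, 6, 6])) (.node 361 (.leaf 27 13 [6, 4, 7, 4, 6, 4, 7, 4, 6, 4, 7, 4, 6, 4, 7, 4, 6, 4, 7, 4, 6, 4, 7, 4]) (.leaf 33 7 [6, 5, 5, 5, 6, 5, 5, 5, 6, 5, 5, 5, 6, 5, 5, 5, 6, 5, 5, 5]))))) (.node 370 (.node 366 (.node 364 (.node 363 (.leaf 36 22 [5, 7, 5, 6, 5, 7, 5, 6, 5, 7, 5, 6, 5, 7, 5, 6, 5, 7, 5, 6, 5, 7, 5, 6]) (.leaf 102 2 [5, 5, 5,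 6, 6, 5, 6, 5, 5, 15, 16, 15, 11, 11, 13, 11, 8, 9, 8, 6, 5])) (.node 365 (.leaf 113 11 [15, 16, 15, 13, 6, 5, 6, 5, 6, 6, 6, 4, 7, 4, 7]) (.leaf 19 6 [5, 5, 6, 5, 5, 6, 5, 5, 6, 5, 5, 6, 5, 5, 6, 5, 5, 6, 5, 5, 6, 5, 5, 6, 5, 5, 6]))) (.node 368 (.node 367 (.leaf 33 5 [5, 5, 6, 5, 5, 5, 6, 5, 5, 5, 6, 5, 5, 5, 6, 5, 5, 5, 6, 5]) (.leaf 33 15 [6, 5, 5, 5, 6, 5, 5, 5, 6, 5, 5, 5, 6, 5, 5, 5, 6, 5, 5, 5])) (.node 369 (.leaf 39 7 [15, 13, 4, 6, 6, 6, 5, 15, 16]) (.leaf 82 14 [9, 9, 7, 5, 7, 5, 6, 6, 5, 7, 5, 5, 15, 14, 12, 9])))) (.node 374 (.node 372 (.node 371 (.leaf 16 17 [7, 4, 4, 7, 4, 4, 7, 4, 4, 7, 4, 4, 7, 4, 4, 7, 4, 4, 7, 4, 4, 7, 4, 4, 7, 4, 4]) (.leaf 50 1 [6, 4, 6, 4, 6, 4, 7, 16,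 8, 9, 6])) (.node 373 (.leaf 12 1 [7, 4, 7, 4, 7, 4, 7, 4, 7, 4, 7, 4]) (.leaf 15 7 [4, 6, 4, 4, 6, 4, 4, 6, 4, 4, 6, 4, 4, 6, 4, 4, 6, 4, 4, 6, 4, 4, 6, 4, 4, 6, 4, 4, 6, 4, 4, 6, 4, 4, 6, 4]))) (.node 376 (.node 375 (.leaf 16 20 [7, 4, 4, 7, 4, 4, 7, 4, 4, 7, 4, 4, 7, 4, 4, 7, 4, 4, 7, 4, 4, 7, 4, 4, 7, 4, 4]) (.leaf 26 22 [7, 7, 4, 4, 7, 7, 4, 4, 7, 7, 4, 4, 7, 7, 4, 4, 7, 7, 4, 4, 7, 7, 4, 4])) (.node 377 (.leaf 46 11 [13, 10, 8, 9, 9, 4, 7, 4, 4, 6, 4, 6, 4, 15, 16, 15]) (.leaf 118 11 [15, 16, 15, 8, 9, 9, 8, 9, 9, 4, 4, 7, 4, 7, 4, 6, 4, 7, 4, 7])))))))) (.node 441 (.node 409 (.node 393 (.node 385 (.node 381 (.node 379 (.leaf 119 8 [4, 7, 4, 12, 9, 8, 10, 10, 8, 9, 9, 8, 10, 6, 6, 5, 5,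 7, 4, 6, 4]) (.node 380 (.leaf 118 13 [15, 8, 9, 9, 8, 9, 9, 4, 4, 7, 4, 7, 4, 6, 4, 7, 4, 7, 15, 16]) (.leaf 71 11 [9, 8, 10, 10, 8, 9, 5, 5, 5, 5, 6, 4, 7, 4, 4, 7, 15]))) (.node 383 (.node 382 (.leaf 116 19 [9, 6, 5, 6, 6, 5, 6, 5, 6, 5, 7, 7, 15, 16, 13, 12, 13, 8, 9, 9]) (.leaf 74 2 [6, 5, 6, 4, 6, 4, 6, 5, 15, 16, 15, 11, 14, 8, 10, 10, 6, 4])) (.node 384 (.leaf 87 15 [14, 9, 8, 10, 10, 8, 7, 4, 4, 4, 4, 6, 5, 5, 5, 5, 16, 15, 11, 13, 11]) (.leaf 57 18 [10, 8, 5, 6, 4, 4, 6, 5, 5, 7, 5, 16, 15, 11, 10, 8, 9, 9, 8, 10])))) (.node 389 (.node 387 (.node 386 (.leaf 50 5 [6, 4, 7, 16, 8, 9, 6, 6, 4, 6, 4]) (.leaf 56 10 [16, 15, 11, 9, 8, 10, 10, 5, 7, 4, 7, 4, 6, 4, 4, 7, 15])) (.node 388 (.leaf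 74 14 [14, 8, 10, 10, 6, 4, 6, 5, 6, 4, 6, 4, 6, 5, 15, 16, 15, 11]) (.leaf 73 5 [4, 4, 4, 7, 4, 16, 15, 11, 14, 8, 10, 10, 10, 5, 7, 5, 6, 4]))) (.node 391 (.node 390 (.leaf 1 4 [4, 8, 5, 6, 6, 6]) (.leaf 19 5 [6, 5, 5, 6, 5, 5, 6, 5, 5, 6, 5, 5, 6, 5, 5, 6, 5, 5, 6, 5, 5, 6, 5, 5, 6, 5, 5])) (.node 392 (.leaf 27 11 [7, 4, 6, 4, 7, 4, 6, 4, 7, 4, 6, 4, 7, 4, 6, 4, 7, 4, 6, 4, 7, 4, 6, 4]) (.leaf 29 19 [6, 4, 6, 6, 6, 4, 6, 6, 6, 4, 6, 6, 6, 4, 6, 6, 6, 4, 6, 6, 6, 4, 6, 6, 6, 4, 6, 6, 6, 4, 6, 6, 6, 4, 6, 6]))))) (.node 401 (.node 397 (.node 395 (.node 394 (.leaf 32 8 [4, 7, 7, 7, 4, 7, 7, 7, 4, 7, 7, 7, 4, 7, 7, 7, 4, 7, 7, 7, 4, 7, 7, 7, 4, 7, 7, 7, 4, 7, 7, 7, 4, 7, 7, 7]) (.leaf 56 9 [15,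 16, 15, 11, 9, 8, 10, 10, 5, 7, 4, 7, 4, 6, 4, 4, 7])) (.node 396 (.leaf 26 18 [7, 7, 4, 4, 7, 7, 4, 4, 7, 7, 4, 4, 7, 7, 4, 4, 7, 7, 4, 4, 7, 7, 4, 4]) (.leaf 27 6 [4, 7, 4, 6, 4, 7, 4, 6, 4, 7, 4, 6, 4, 7, 4, 6, 4, 7, 4, 6, 4, 7, 4, 6]))) (.node 399 (.node 398 (.leaf 46 14 [9, 9, 4, 7, 4, 4, 6, 4, 6, 4, 15, 16, 15, 13, 10, 8]) (.leaf 29 8 [4, 6, 6, 6, 4, 6, 6, 6, 4, 6, 6, 6, 4, 6, 6, 6, 4, 6, 6, 6, 4, 6, 6, 6, 4, 6, 6, 6, 4, 6, 6, 6, 4, 6, 6, 6])) (.node 400 (.leaf 21 17 [6, 5, 6, 6, 5, 6, 6, 5, 6, 6, 5, 6, 6, 5, 6, 6, 5, 6, 6, 5, 6, 6, 5, 6, 6, 5, 6]) (.leaf 21 12 [5, 6, 6, 5, 6, 6, 5, 6, 6, 5, 6, 6, 5, 6, 6, 5, 6, 6, 5, 6, 6, 5, 6, 6, 5, 6, 6])))) (.node 405 (.node 403 (.node 402 (.leaf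 29 31 [6, 4, 6, 6, 6, 4, 6, 6, 6, 4, 6, 6, 6, 4, 6, 6, 6, 4, 6, 6, 6, 4, 6, 6, 6, 4, 6, 6, 6, 4, 6, 6, 6, 4, 6, 6]) (.leaf 37 4 [5, 6, 6, 6, 5, 6, 6, 6, 5, 6, 6, 6, 5, 6, 6, 6, 5, 6, 6, 6, 5, 6, 6, 6, 5, 6, 6, 6, 5, 6, 6, 6, 5, 6, 6, 6])) (.node 404 (.leaf 89 10 [16, 15, 14, 12, 9, 9, 9, 9, 4, 4, 7, 5, 5, 6, 4, 7, 4, 4]) (.leaf 16 23 [7, 4, 4, 7, 4, 4, 7, 4, 4, 7, 4, 4, 7, 4, 4, 7, 4, 4, 7, 4, 4, 7, 4, 4, 7, 4, 4]))) (.node 407 (.node 406 (.leaf 26 0 [4, 4, 7, 7, 4, 4, 7, 7, 4, 4, 7, 7, 4, 4, 7, 7, 4, 4, 7, 7, 4, 4, 7, 7]) (.leaf 32 6 [7, 7, 4, 7, 7, 7, 4, 7, 7, 7, 4, 7, 7, 7, 4, 7, 7, 7, 4, 7, 7, 7, 4, 7, 7, 7, 4, 7, 7, 7, 4, 7, 7, 7, 4, 7])) (.node 408 (.leaf 67 17 [9, 9, 8, 7, 7, 5, 5, 6,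 6, 6, 4, 6, 6, 16, 11, 14, 11, 9, 8, 9]) (.leaf 36 19 [7, 5, 6, 5, 7, 5, 6, 5, 7, 5, 6, 5, 7, 5, 6, 5, 7, 5, 6, 5, 7, 5, 6, 5])))))) (.node 425 (.node 417 (.node 413 (.node 411 (.node 410 (.leaf 45 16 [9, 4, 7, 4, 4, 4, 7, 5, 6, 15, 13, 10, 10, 8, 10, 10, 8]) (.leaf 25 19 [7, 4, 4, 4, 7, 4, 4, 4, 7, 4, 4, 4, 7, 4, 4, 4, 7, 4, 4, 4])) (.node 412 (.leaf 28 16 [4, 6, 5, 7, 4, 6, 5, 7, 4, 6, 5, 7, 4, 6, 5, 7, 4, 6, 5, 7]) (.leaf 32 11 [7, 4, 7, 7, 7, 4, 7, 7, 7, 4, 7, 7, 7, 4, 7, 7, 7, 4, 7, 7, 7, 4, 7, 7, 7, 4, 7, 7, 7, 4, 7, 7, 7, 4, 7, 7]))) (.node 415 (.node 414 (.leaf 62 10 [14, 12, 14, 8, 9, 8, 9, 7, 5, 7, 4, 6, 4, 7, 5, 7, 16]) (.leaf 67 12 [14, 11, 9, 8, 9, 9, 9, 8, 7, 7, 5, 5, 6, 6, 6,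 4, 6, 6, 16, 11])) (.node 416 (.leaf 76 0 [6, 5, 6, 6, 6, 4, 4, 4, 6, 6, 15, 16, 15, 11, 8, 9, 9, 8, 9]) (.leaf 77 16 [9, 9, 5, 5, 5, 7, 4, 6, 6, 5, 6, 4, 16, 11, 13, 12, 9, 9])))) (.node 421 (.node 419 (.node 418 (.leaf 78 13 [10, 10, 8, 9, 9, 9, 9, 4, 7, 5, 6, 4, 4, 7, 5, 5, 6, 16, 11, 14]) (.leaf 87 11 [15, 11, 13, 11, 14, 9, 8, 10, 10, 8, 7, 4, 4, 4, 4, 6, 5, 5, 5, 5, 16])) (.node 420 (.leaf 96 15 [14, 10, 8, 9, 9, 5, 5, 7, 4, 4, 4, 4, 6, 5, 6, 16, 15, 11, 14, 11]) (.leaf 103 8 [5, 6, 5, 15, 11, 14, 11, 10, 8, 10, 8, 9, 9, 5, 5, 7, 5, 7, 4, 6, 6]))) (.node 423 (.node 422 (.leaf 105 18 [9, 8, 10, 10, 8, 9, 7, 4, 4, 4, 6, 6, 5, 7, 5, 5, 6, 15, 16, 15, 11, 13, 11, 13]) (.leaf 127 4 [4, 4, 6,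 4, 4, 7, 7, 15, 16, 15, 11, 14, 11, 14, 8, 9, 8, 9, 9, 5, 6, 4, 6])) (.node 424 (.leaf 51 19 [10, 7, 4, 7, 4, 6, 5, 7, 7, 16, 15, 13, 12, 13, 9, 8, 10, 10, 8, 10]) (.leaf 123 6 [7, 5, 6, 4, 4, 12, 14, 12, 8, 9, 9, 8, 9, 9, 8, 7, 7, 4, 4, 4, 4]))))) (.node 433 (.node 429 (.node 427 (.node 426 (.leaf 125 11 [16, 13, 12, 9, 9, 9, 6, 5, 6, 4, 4, 6, 4, 4, 6, 4, 4]) (.leaf 39 8 [13, 4, 6, 6, 6, 5, 15, 16, 15])) (.node 428 (.leaf 47 10 [11, 8, 9, 9, 8, 9, 8, 10, 6, 4, 4, 4, 7, 5, 7, 5, 15, 13]) (.leaf 11 7 [6, 4, 6, 4, 6, 4, 6, 4, 6, 4, 6, 4, 6, 4, 6, 4, 6, 4, 6, 4, 6, 4, 6, 4]))) (.node 431 (.node 430 (.leaf 15 14 [6, 4, 4, 6, 4, 4, 6, 4, 4, 6, 4, 4, 6, 4, 4, 6, 4, 4, 6, 4, 4, 6, 4, 4, 6, 4, 4, 6,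 4, 4, 6, 4, 4, 6, 4, 4]) (.leaf 113 14 [13, 6, 5, 6, 5, 6, 6, 6, 4, 7, 4, 7, 15, 16, 15])) (.node 432 (.leaf 126 16 [10, 8, 10, 8, 9, 9, 4, 4, 7, 7, 4, 4, 4, 6, 4, 6, 6, 15, 16, 15, 14, 11]) (.leaf 38 11 [7, 5, 7, 7, 7, 5, 7, 7, 7, 5, 7, 7, 7, 5, 7, 7, 7, 5, 7, 7, 7, 5, 7, 7, 7, 5, 7, 7, 7, 5, 7, 7, 7, 5, 7, 7])))) (.node 437 (.node 435 (.node 434 (.leaf 28 1 [6, 5, 7, 4, 6, 5, 7, 4, 6, 5, 7, 4, 6, 5, 7, 4, 6, 5, 7, 4]) (.leaf 29 2 [6, 6, 4, 6, 6, 6, 4, 6, 6, 6, 4, 6, 6, 6, 4, 6, 6, 6, 4, 6, 6, 6, 4, 6, 6, 6, 4, 6, 6, 6, 4, 6, 6, 6, 4, 6])) (.node 436 (.leaf 40 7 [15, 16, 11, 14, 10, 10, 5, 5, 6, 6, 6, 4, 4]) (.leaf 67 16 [9, 9, 9, 8, 7, 7, 5, 5, 6, 6, 6, 4, 6, 6, 16, 11, 14, 11, 9, 8]))) (.node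 439 (.node 438 (.leaf 78 3 [6, 4, 4, 7, 5, 5, 6, 16, 11, 14, 10, 10, 8, 9, 9, 9, 9, 4, 7, 5]) (.leaf 99 13 [13, 10, 10, 8, 10, 8, 10, 8, 9, 6, 6, 5, 5, 6, 4, 7, 7, 4, 4, 6, 16, 11])) (.node 440 (.leaf 114 8 [4, 4, 4, 15, 16, 11, 13, 10, 10, 8, 10, 10, 8, 9, 4, 6, 5, 5, 5, 6, 4, 7]) (.leaf 97 14 [11, 9, 8, 4, 6, 5, 5, 6, 4, 4, 7, 4, 6, 4, 11, 13, 11]))))))) (.node 472 (.node 456 (.node 448 (.node 444 (.node 442 (.leaf 106 11 [16, 15, 11, 13, 11, 11, 9, 9, 9, 9, 7, 7, 5, 7, 4, 6, 5, 5, 6, 4, 4]) (.node 443 (.leaf 39 5 [15, 16, 15, 13, 4, 6, 6, 6, 5]) (.leaf 56 15 [10, 10, 5, 7, 4, 7, 4, 6, 4, 4, 7, 15, 16, 15, 11, 9, 8]))) (.node 446 (.node 445 (.leaf 76 17 [8, 9, 6, 5, 6, 6, 6, 4, 4, 4, 6, 6,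 15, 16, 15, 11, 8, 9, 9]) (.leaf 83 18 [10, 8, 6, 5, 6, 6, 4, 6, 4, 4, 4, 4, 15, 16, 15, 11, 10, 10, 8, 10])) (.node 447 (.leaf 110 21 [9, 4, 4, 6, 6, 4, 6, 6, 4, 6, 5, 6, 15, 16, 15, 13, 10, 10, 8, 9, 9, 9]) (.leaf 71 16 [9, 5, 5, 5, 5, 6, 4, 7, 4, 4, 7, 15, 9, 8, 10, 10, 8])))) (.node 452 (.node 450 (.node 449 (.leaf 127 17 [14, 8, 9, 8, 9, 9, 5, 6, 4, 6, 4, 4, 6, 4, 4, 7, 7, 15, 16, 15, 11, 14, 11]) (.leaf 124 20 [9, 6, 5, 5, 7, 4, 6, 4, 4, 4, 4, 4, 11, 13, 12, 14, 10, 10, 8, 10, 8])) (.node 451 (.leaf 40 12 [10, 5, 5, 6, 6, 6, 4, 4, 15, 16, 11, 14, 10]) (.leaf 93 13 [11, 10, 10, 8, 9, 9, 9, 9, 4, 4, 7, 4, 6, 6, 4, 4, 4, 7, 16, 11, 14]))) (.node 454 (.node 453 (.leaf 96 19 [9, 5, 5, 7, 4,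 4, 4, 4, 6, 5, 6, 16, 15, 11, 14, 11, 14, 10, 8, 9]) (.leaf 63 11 [15, 12, 14, 12, 8, 9, 9, 8, 10, 10, 10, 10, 6, 5, 5, 6, 6, 6, 4, 4, 7, 15, 16])) (.node 455 (.leaf 90 10 [15, 13, 12, 13, 8, 9, 9, 9, 9, 6, 5, 5, 6, 4, 4, 7, 5, 6, 6]) (.leaf 116 12 [16, 13, 12, 13, 8, 9, 9, 9, 6, 5, 6, 6, 5, 6, 5, 6, 5, 7, 7, 15]))))) (.node 464 (.node 460 (.node 458 (.node 457 (.leaf 70 12 [14, 11, 8, 9, 8, 9, 8, 10, 10, 10, 6, 5, 5, 5, 6, 5, 5, 7, 5, 5, 15, 11]) (.leaf 120 12 [11, 13, 8, 9, 9, 8, 9, 8, 9, 8, 9, 9, 8, 10, 4, 4, 4, 7, 7, 4, 4, 6, 5, 5, 5, 11])) (.node 459 (.leaf 97 13 [11, 11, 9, 8, 4, 6, 5, 5, 6, 4, 4, 7, 4, 6, 4, 11, 13]) (.leaf 45 9 [13, 10, 10, 8, 10, 10, 8, 9, 4, 7, 4, 4, 4, 7, 5, 6, 15])))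 (.node 462 (.node 461 (.leaf 126 20 [9, 9, 4, 4, 7, 7, 4, 4, 4, 6, 4, 6, 6, 15, 16, 15, 14, 11, 10, 8, 10, 8]) (.leaf 3 2 [9, 9, 8, 9, 9, 9, 9, 12, 9, 8])) (.node 463 (.leaf 11 2 [4, 6, 4, 6, 4, 6, 4, 6, 4, 6, 4, 6, 4, 6, 4, 6, 4, 6, 4, 6, 4, 6, 4, 6]) (.leaf 21 2 [6, 5, 6, 6, 5, 6, 6, 5, 6, 6, 5, 6, 6, 5, 6, 6, 5, 6, 6, 5, 6, 6, 5, 6, 6, 5, 6])))) (.node 468 (.node 466 (.node 465 (.leaf 23 2 [6, 6, 6, 6, 6, 6]) (.leaf 33 14 [5, 6, 5, 5, 5, 6, 5, 5, 5, 6, 5, 5, 5, 6, 5, 5, 5, 6, 5, 5])) (.node 467 (.leaf 53 14 [14, 10, 8, 10, 8, 9, 9, 5, 6, 5, 6, 4, 7, 4, 6, 6, 15, 16, 11, 14, 11]) (.leaf 72 11 [13, 10, 8, 9, 9, 5, 7, 4, 4, 6, 4, 6, 4, 4, 4, 11]))) (.node 470 (.node 469 (.leaf 48 11 [11, 10,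 10, 10, 8, 10, 6, 4, 7, 4, 6, 6, 4, 6, 16, 15, 11]) (.leaf 85 14 [10, 8, 10, 4, 4, 4, 6, 6, 6, 4, 4, 6, 5, 13, 10, 10, 8])) (.node 471 (.leaf 103 12 [11, 14, 11, 10, 8, 10, 8, 9, 9, 5, 5, 7, 5, 7, 4, 6, 6, 5, 6, 5, 15]) (.leaf 104 11 [16, 15, 11, 14, 11, 10, 10, 10, 8, 5, 6, 4, 6, 5, 6, 4, 7, 5, 7, 4])))))) (.node 488 (.node 480 (.node 476 (.node 474 (.node 473 (.leaf 62 12 [14, 8, 9, 8, 9, 7, 5, 7, 4, 6, 4, 7, 5, 7, 16, 14, 12]) (.leaf 127 14 [11, 14, 11, 14, 8, 9, 8, 9, 9, 5, 6, 4, 6, 4, 4, 6, 4, 4, 7, 7, 15, 16, 15])) (.node 475 (.leaf 117 6 [6, 4, 7, 7, 7, 16, 15, 11, 13, 11, 14, 10, 10, 10, 8, 10, 6, 5, 7, 4, 7, 4]) (.leaf 16 8 [7, 4, 4, 7, 4, 4, 7, 4, 4, 7, 4, 4, 7, 4, 4, 7, 4, 4, 7, 4,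 4, 7, 4, 4, 7, 4, 4]))) (.node 478 (.node 477 (.leaf 29 17 [6, 6, 6, 4, 6, 6, 6, 4, 6, 6, 6, 4, 6, 6, 6, 4, 6, 6, 6, 4, 6, 6, 6, 4, 6, 6, 6, 4, 6, 6, 6, 4, 6, 6, 6, 4]) (.leaf 36 5 [6, 5, 7, 5, 6, 5, 7, 5, 6, 5, 7, 5, 6, 5, 7, 5, 6, 5, 7, 5, 6, 5, 7, 5])) (.node 479 (.leaf 75 10 [11, 13, 11, 14, 8, 9, 9, 8, 10, 10, 10, 10, 6, 6, 6, 5, 5, 6, 4, 4, 6, 6]) (.leaf 20 11 [7, 5, 5, 7, 5, 5, 7, 5, 5, 7, 5, 5, 7, 5, 5, 7, 5, 5, 7, 5, 5, 7, 5, 5, 7, 5, 5, 7, 5, 5, 7, 5, 5, 7, 5, 5])))) (.node 484 (.node 482 (.node 481 (.leaf 115 22 [9, 7, 5, 7, 5, 7, 4, 7, 4, 6, 5, 6, 15, 16, 15, 12, 14, 10, 8, 9, 9, 8, 9]) (.leaf 44 8 [15, 14, 12, 14, 9, 8, 10, 10, 8, 9, 9, 8, 10, 4, 6, 5, 6, 6, 5, 7, 5])) (.node 483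 (.leaf 110 19 [9, 9, 9, 4, 4, 6, 6, 4, 6, 6, 4, 6, 5, 6, 15, 16, 15, 13, 10, 10, 8, 9]) (.leaf 119 16 [8, 9, 9, 8, 10, 6, 6, 5, 5, 7, 4, 6, 4, 4, 7, 4, 12, 9, 8, 10, 10]))) (.node 486 (.node 485 (.leaf 66 10 [11, 14, 12, 9, 8, 10, 10, 8, 9, 9, 8, 10, 7, 4, 4, 7, 5, 6, 6, 4, 4, 6]) (.leaf 67 10 [16, 11, 14, 11, 9, 8, 9, 9, 9, 8, 7, 7, 5, 5, 6, 6, 6, 4, 6, 6])) (.node 487 (.leaf 97 11 [11, 13, 11, 11, 9, 8, 4, 6, 5, 5, 6, 4, 4, 7, 4, 6, 4]) (.leaf 111 12 [16, 15, 13, 11, 11, 8, 9, 7, 7, 4, 6, 4, 4, 4, 6, 4, 7, 7, 15]))))) (.node 496 (.node 492 (.node 490 (.node 489 (.leaf 118 18 [9, 9, 4, 4, 7, 4, 7, 4, 6, 4, 7, 4, 7, 15, 16, 15, 8, 9, 9, 8]) (.leaf 120 25 [10, 4, 4, 4, 7, 7, 4, 4, 6, 5, 5, 5,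 11, 11, 13, 8, 9, 9, 8, 9, 8, 9, 8, 9, 9, 8])) (.node 491 (.leaf 3 8 [9, 12, 9, 8, 9, 9, 8, 9, 9, 9]) (.leaf 70 21 [10, 6, 5, 5, 5, 6, 5, 5, 7, 5, 5, 15, 11, 14, 11, 8, 9, 8, 9, 8, 10, 10]))) (.node 494 (.node 493 (.leaf 99 21 [9, 6, 6, 5, 5, 6, 4, 7, 7, 4, 4, 6, 16, 11, 13, 10, 10, 8, 10, 8, 10, 8]) (.leaf 104 16 [10, 10, 10, 8, 5, 6, 4, 6, 5, 6, 4, 7, 5, 7, 4, 16, 15, 11, 14, 11])) (.node 495 (.leaf 110 18 [9, 9, 9, 9, 4, 4, 6, 6, 4, 6, 6, 4, 6, 5, 6, 15, 16, 15, 13, 10, 10, 8]) (.leaf 68 19 [10, 8, 5, 7, 4, 7, 5, 6, 6, 5, 5, 6, 15, 16, 15, 11, 14, 11, 14, 10, 8])))) (.node 500 (.node 498 (.node 497 (.leaf 73 17 [10, 5, 7, 5, 6, 4, 4, 4, 4, 7, 4, 16, 15, 11, 14, 8, 10, 10]) (.leaf 44 19 [8,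 10, 4, 6, 5, 6, 6, 5, 7, 5, 15, 14, 12, 14, 9, 8, 10, 10, 8, 9, 9])) (.node 499 (.leaf 57 13 [8, 9, 9, 8, 10, 10, 8, 5, 6, 4, 4, 6, 5, 5, 7, 5, 16, 15, 11, 10]) (.leaf 87 13 [13, 11, 14, 9, 8, 10, 10, 8, 7, 4, 4, 4, 4, 6, 5, 5, 5, 5, 16, 15, 11]))) (.node 502 (.node 501 (.leaf 111 15 [11, 11, 8, 9, 7, 7, 4, 6, 4, 4, 4, 6, 4, 7, 7, 15, 16, 15, 13]) (.leaf 126 15 [11, 10, 8, 10, 8, 9, 9, 4, 4, 7, 7, 4, 4, 4, 6, 4, 6, 6, 15, 16, 15, 14])) (.node 503 (.leaf 42 10 [11, 10, 8, 10, 8, 9, 9, 9, 6, 4, 6, 6, 6, 5, 7, 16, 13, 11]) (.leaf 49 11 [13, 11, 11, 10, 10, 8, 9, 9, 9, 7, 5, 6, 4, 7, 5, 5, 5, 16, 15, 11]))))))))))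

theorem b0 : allR (guardB 13 (blk fc sc rt.get Cfsg.Agent.Lib.Helper3.U62.INV isH)) 4 0 = true := by decide +kernel
theorem c0 : allR (guardB 16 (cblk fc nc cc 3328 512 79228162514264337593543950336 gens)) 4 0 = true := by decide +kernel

theorem chkAll : ∀ j < 13, blk fc sc rt.get Cfsg.Agent.Lib.Helper3.U62.INV isH j = true :=
  guardB_spec (D := 4) b0 (by norm_num)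

theorem clAll : ∀ jb < 16, cblk fc nc cc (256 * 13) 512 79228162514264337593543950336 gens jb = true :=
  guardB_spec (D := 4) c0 (by norm_num)

theorem card_eq : Nat.card (lgrp (vL Cfsg.Agent.Lib.Helper3.U62.ntl Cfsg.Agent.Lib.Helper3.U62.deg) gens) = 512 * Nat.card (lgrp (vL Cfsg.Agent.Lib.Helper3.U62.ntl Cfsg.Agent.Lib.Helper3.U62.deg) hl) :=
  Cfsg.Agent.Lib.Helper3.U62.setup.level gens hl dl BR (by decide +kernel) (by decide +kernel) (by decide +kernel) (by decide +kernel)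
    (by decide +kernel) rt (by decide +kernel) isH (fun l h => of_decide_eq_true h) fc sc nc cc 13 16 512 79228162514264337593543950336
    (by norm_num) (by norm_num) (by decide +kernel) (by decide) chkAll clAll
    1 1 9 (by norm_num [Cfsg.Agent.Lib.Helper3.U62.deg]) (by norm_num [Cfsg.Agent.Lib.Helper3.U62.deg]) (by decide +kernel) (by decide +kernel)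

theorem ub {M : Type*} [Group M] (w : ℕ → M) (h0 : w 0 = 1) (hinv : ∀ l, w (invL Cfsg.Agent.Lib.Helper3.U62.INV l) = (w l)⁻¹)
    (hBR : ∀ r ∈ BR, (r.map w).prod = 1)
    (hdlr : ∀ r ∈ dl.map (fun p => p.1 ++ [p.2]), (r.map w).prod = 1) (N : ℕ) (hN : Bd w hl N) :
    Bd w gens (512 * N) :=
  level_bd w Cfsg.Agent.Lib.Helper3.U62.INV h0 hinv gens hl dl BR (by decide +kernel) hdlr hBR (by decide +kernel) (by decide +kernel)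
    rt (by decide +kernel) isH (fun l h => of_decide_eq_true h) fc sc nc cc 13 16 512 79228162514264337593543950336
    (by norm_num) (by norm_num) (by decide +kernel) (by decide) chkAll clAll N hN

end Cfsg.Agent.Lib.Helper3.U62.L2
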