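import Cfsg.Agent.Lib.Helper3.U62.L3D
import Cfsg.Agent.Lib.Helper3.U62.Net

set_option autoImplicit false
set_option maxRecDepth 100000

namespace Cfsg.Agent.Lib.Helper3.U62.L3

open Cfsg.Agent.Lib.Helper11 Cfsg.Agent.Lib.Helper3

set_option maxHeartbeats 0

noncomputable def fc (i : ℕ) : ℕ := (fc0_0 i)
noncomputable def sc (i : ℕ) : ℕ := (sc0_0 i)
noncomputable def nc (i : ℕ) : ℕ := (nc0_0 i)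
noncomputable def cc (i : ℕ) : ℕ := (cc0_0 i)

def isH (l : ℕ) : Bool := decide (l ∈ [11, 13])
def gens : List ℕ := [8, 9]
def hl : List ℕ := [11, 13]
def dl : List (List ℕ × ℕ) := [([9], 10), ([9, 8, 9, 9, 8, 9, 9, 9, 9], 12), ([12], 11), ([8, 9, 8, 9, 8, 9, 9, 8, 9, 8, 9], 14), ([14], 13), ([14, 11, 13, 11, 11], 15), ([14, 12, 13, 11, 13, 11], 16)]
def BR : List (List ℕ) := [[], [9, 8, 9, 9, 8, 9, 9, 9, 9, 12], [8, 9, 8, 9, 8, 9, 9, 8, 9, 8, 9, 14], [14, 11, 13, 11, 11, 15], [14, 12, 13, 11, 13, 11, 16], [9, 9, 9, 9, 9, 9, 9, 9, 9], [10, 10, 10, 10, 10, 10, 10, 10, 10], [8, 9, 8, 9, 8, 9, 8, 9, 8, 9, 8, 9, 8, 9, 8, 9, 8, 9, 8, 9, 8, 9, 8, 9], [8, 9, 9, 8, 9, 9, 8, 9, 9, 8, 9, 9, 8, 9, 9, 8, 9, 9, 8, 9, 9, 8, 9, 9, 8, 9, 9], [8, 9, 8, 9, 8, 9, 8, 9, 8, 9, 8, 9, 8, 9, 8, 9,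 8, 9, 8, 9, 8, 9, 8, 9], [8, 9, 8, 10, 8, 9, 8, 10], [8, 9, 9, 9, 8, 9, 9, 9, 8, 9, 9, 9, 8, 9, 9, 9, 8, 9, 9, 9, 8, 9, 9, 9], [8, 10, 10, 10, 8, 10, 10, 10, 8, 10, 10, 10, 8, 10, 10, 10, 8, 10, 10, 10, 8, 10, 10, 10], [9, 9, 8, 10, 10, 16], [8, 10, 10, 8, 9, 9, 8, 15], [9, 9, 9, 8, 10, 10, 10, 15, 16, 11, 14, 11], [8, 10, 10, 10, 8, 9, 9, 9, 8, 15, 16, 11, 14, 11], [10, 8, 9, 9, 9, 9, 8, 10, 8, 15, 16, 15, 14, 11]]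
def rt : RT := (.node 34 (.node 17 (.node 8 (.node 4 (.node 2 (.node 1 (.leaf 0 0 []) (.leaf 2 5 [9, 9, 8, 9, 8, 9, 14, 8, 9, 8, 9, 8])) (.node 3 (.leaf 10 4 [8, 9, 8, 10, 8, 9, 8, 10]) (.leaf 10 6 [8, 10, 8, 9, 8, 10, 8, 9]))) (.node 6 (.node 5 (.leaf 1 4 [8, 9, 9, 9, 9, 12, 9, 8, 9, 9]) (.leaf 1 9 [12, 9, 8, 9, 9, 8, 9, 9, 9, 9])) (.node 7 (.leaf 2 11 [14, 8, 9, 8, 9, 8, 9, 9, 8, 9, 8, 9]) (.leaf 5 4 [9, 9, 9, 9, 9, 9, 9, 9, 9])))) (.node 12 (.node 10 (.node 9 (.leaf 10 5 [9, 8, 10, 8, 9, 8, 10, 8]) (.leaf 5 3 [9, 9, 9, 9, 9, 9, 9, 9, 9])) (.node 11 (.leaf 3 5 [15, 14, 11, 13, 11, 11]) (.leaf 4 6 [16, 14, 12, 13, 11, 13, 11]))) (.node 14 (.node 13 (.leaf 13 2 [8, 10, 10, 16, 9, 9]) (.leaf 13 5 [16, 9, 9, 8, 10, 10])) (.node 15 (.leaf 14 3 [8, 9, 9, 8, 15, 8, 10, 10]) (.node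 16 (.leaf 14 7 [15, 8, 10, 10, 8, 9, 9, 8]) (.leaf 15 3 [8, 10, 10, 10, 15, 16, 11, 14, 11, 9, 9, 9])))))) (.node 25 (.node 21 (.node 19 (.node 18 (.leaf 15 7 [15, 16, 11, 14, 11, 9, 9, 9, 8, 10, 10, 10]) (.leaf 16 4 [8, 9, 9, 9, 8, 15, 16, 11, 14, 11, 8, 10, 10, 10])) (.node 20 (.leaf 17 4 [9, 9, 8, 10, 8, 15, 16, 15, 14, 11, 10, 8, 9, 9]) (.leaf 17 11 [15, 14, 11, 10, 8, 9, 9, 9, 9, 8, 10, 8, 15, 16]))) (.node 23 (.node 22 (.leaf 11 16 [8, 9, 9, 9, 8, 9, 9, 9, 8, 9, 9, 9, 8, 9, 9, 9, 8, 9, 9, 9, 8, 9, 9, 9]) (.leaf 14 5 [9, 8, 15, 8, 10, 10, 8, 9])) (.node 24 (.leaf 15 11 [11, 9, 9, 9, 8, 10, 10, 10, 15, 16, 11, 14]) (.leaf 16 0 [8, 10, 10, 10, 8, 9, 9, 9, 8, 15, 16, 11, 14, 11])))) (.node 29 (.node 27 (.node 26 (.leaf 16 9 [15, 16, 11, 14, 11, 8, 10, 10, 10, 8, 9, 9, 9, 8])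 (.leaf 7 21 [9, 8, 9, 8, 9, 8, 9, 8, 9, 8, 9, 8, 9, 8, 9, 8, 9, 8, 9, 8, 9, 8, 9, 8])) (.node 28 (.leaf 10 2 [8, 10, 8, 9, 8, 10, 8, 9]) (.leaf 11 20 [8, 9, 9, 9, 8, 9, 9, 9, 8, 9, 9, 9, 8, 9, 9, 9, 8, 9, 9, 9, 8, 9, 9, 9]))) (.node 31 (.node 30 (.leaf 17 12 [14, 11, 10, 8, 9, 9, 9, 9, 8, 10, 8, 15, 16, 15]) (.leaf 15 6 [10, 15, 16, 11, 14, 11, 9, 9, 9, 8, 10, 10])) (.node 32 (.leaf 5 7 [9, 9, 9, 9, 9, 9, 9, 9, 9]) (.node 33 (.leaf 15 10 [14, 11, 9, 9, 9, 8, 10, 10, 10, 15, 16, 11]) (.leaf 16 2 [10, 10, 8, 9, 9, 9, 8, 15, 16, 11, 14, 11, 8, 10]))))))) (.node 51 (.node 42 (.node 38 (.node 36 (.node 35 (.leaf 17 10 [16, 15, 14, 11, 10, 8, 9, 9, 9, 9, 8, 10, 8, 15]) (.leaf 12 12 [8, 10, 10, 10, 8, 10, 10, 10, 8, 10, 10, 10, 8, 10, 10, 10, 8, 10, 10, 10, 8, 10, 10, 10])) (.node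 37 (.leaf 15 9 [11, 14, 11, 9, 9, 9, 8, 10, 10, 10, 15, 16]) (.leaf 4 4 [13, 11, 16, 14, 12, 13, 11]))) (.node 40 (.node 39 (.leaf 3 4 [11, 15, 14, 11, 13, 11]) (.leaf 2 7 [8, 9, 8, 9, 14, 8, 9, 8, 9, 8, 9, 9])) (.node 41 (.leaf 4 1 [12, 13, 11, 13, 11, 16, 14]) (.leaf 6 4 [10, 10, 10, 10, 10, 10, 10, 10, 10])))) (.node 46 (.node 44 (.node 43 (.leaf 1 7 [9, 9, 12, 9, 8, 9, 9, 8, 9, 9]) (.leaf 4 2 [13, 11, 13, 11, 16, 14, 12])) (.node 45 (.leaf 8 3 [8, 9, 9, 8, 9, 9, 8, 9, 9, 8, 9, 9, 8, 9, 9, 8, 9, 9, 8, 9, 9, 8, 9, 9, 8, 9, 9]) (.leaf 9 18 [8, 9, 8, 9, 8, 9, 8, 9, 8, 9, 8, 9, 8, 9, 8, 9, 8, 9, 8, 9, 8, 9, 8, 9]))) (.node 48 (.node 47 (.leaf 1 1 [8, 9, 9, 8, 9, 9, 9, 9, 12, 9]) (.leaf 12 4 [8, 10, 10, 10, 8, 10, 10, 10, 8, 10, 10, 10, 8, 10, 10, 10, 8, 10, 10, 10, 8, 10, 10,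 10])) (.node 49 (.leaf 8 0 [8, 9, 9, 8, 9, 9, 8, 9, 9, 8, 9, 9, 8, 9, 9, 8, 9, 9, 8, 9, 9, 8, 9, 9, 8, 9, 9]) (.node 50 (.leaf 9 11 [9, 8, 9, 8, 9, 8, 9, 8, 9, 8, 9, 8, 9, 8, 9, 8, 9, 8, 9, 8, 9, 8, 9, 8]) (.leaf 11 9 [9, 9, 9, 8, 9, 9, 9, 8, 9, 9, 9, 8, 9, 9, 9, 8, 9, 9, 9, 8, 9, 9, 9, 8])))))) (.node 59 (.node 55 (.node 53 (.node 52 (.leaf 5 8 [9, 9, 9, 9, 9, 9, 9, 9, 9]) (.leaf 8 23 [9, 8, 9, 9, 8, 9, 9, 8, 9, 9, 8, 9, 9, 8, 9, 9, 8, 9, 9, 8, 9, 9, 8, 9, 9, 8, 9])) (.node 54 (.leaf 11 22 [9, 9, 8, 9, 9, 9, 8, 9, 9, 9, 8, 9, 9, 9, 8, 9, 9, 9, 8, 9, 9, 9, 8, 9]) (.leaf 17 13 [11, 10, 8, 9, 9, 9, 9, 8, 10, 8, 15, 16, 15, 14]))) (.node 57 (.node 56 (.leaf 16 11 [11, 14, 11, 8, 10, 10, 10, 8, 9, 9, 9, 8, 15, 16]) (.leaf 17 9 [15, 16, 15, 14, 11, 10, 8, 9, 9, 9, 9, 8, 10, 8]))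 (.node 58 (.leaf 2 8 [9, 8, 9, 14, 8, 9, 8, 9, 8, 9, 9, 8]) (.leaf 1 0 [9, 8, 9, 9, 8, 9, 9, 9, 9, 12])))) (.node 63 (.node 61 (.node 60 (.leaf 15 5 [10, 10, 15, 16, 11, 14, 11, 9, 9, 9, 8, 10]) (.leaf 3 2 [13, 11, 11, 15, 14, 11])) (.node 62 (.leaf 17 6 [8, 10, 8, 15, 16, 15, 14, 11, 10, 8, 9, 9, 9, 9]) (.leaf 16 12 [14, 11, 8, 10, 10, 10, 8, 9, 9, 9, 8, 15, 16, 11]))) (.node 65 (.node 64 (.leaf 15 1 [9, 9, 8, 10, 10, 10, 15, 16, 11, 14, 11, 9]) (.leaf 11 15 [9, 8, 9, 9, 9, 8, 9, 9, 9, 8, 9, 9, 9, 8, 9, 9, 9, 8, 9, 9, 9, 8, 9, 9])) (.node 66 (.leaf 4 0 [14, 12, 13, 11, 13, 11, 16]) (.node 67 (.leaf 2 0 [8, 9, 8, 9, 8, 9, 9, 8, 9, 8, 9, 14]) (.leaf 2 4 [8, 9, 9, 8, 9, 8, 9, 14, 8, 9, 8, 9]))))))))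

theorem b0 : allR (guardB 4 (blk fc sc rt.get Cfsg.Agent.Lib.Helper3.U62.INV isH)) 2 0 = true := by decide +kernel
theorem c0 : allR (guardB 5 (cblk fc nc cc 1024 135 79228162514264337593543950336 gens)) 3 0 = true := by decide +kernel

theorem chkAll : ∀ j < 4, blk fc sc rt.get Cfsg.Agent.Lib.Helper3.U62.INV isH j = true :=
  guardB_spec (D := 2) b0 (by norm_num)

theorem clAll : ∀ jb < 5, cblk fc nc cc (256 * 4) 135 79228162514264337593543950336 gens jb = true :=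
  guardB_spec (D := 3) c0 (by norm_num)

theorem card_eq : Nat.card (lgrp (vL Cfsg.Agent.Lib.Helper3.U62.ntl Cfsg.Agent.Lib.Helper3.U62.deg) gens) = 135 * Nat.card (lgrp (vL Cfsg.Agent.Lib.Helper3.U62.ntl Cfsg.Agent.Lib.Helper3.U62.deg) hl) :=
  Cfsg.Agent.Lib.Helper3.U62.setup.level gens hl dl BR (by decide +kernel) (by decide +kernel) (by decide +kernel) (by decide +kernel)
    (by decide +kernel) rt (by decide +kernel) isH (fun l h => of_decide_eq_true h) fc sc nc cc 4 5 135 79228162514264337593543950336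
    (by norm_num) (by norm_num) (by decide +kernel) (by decide) chkAll clAll
    2 2 11 (by norm_num [Cfsg.Agent.Lib.Helper3.U62.deg]) (by norm_num [Cfsg.Agent.Lib.Helper3.U62.deg]) (by decide +kernel) (by decide +kernel)

theorem ub {M : Type*} [Group M] (w : ℕ → M) (h0 : w 0 = 1) (hinv : ∀ l, w (invL Cfsg.Agent.Lib.Helper3.U62.INV l) = (w l)⁻¹)
    (hBR : ∀ r ∈ BR, (r.map w).prod = 1)
    (hdlr : ∀ r ∈ dl.map (fun p => p.1 ++ [p.2]), (r.map w).prod = 1) (N : ℕ) (hN : Bd w hl N) :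
    Bd w gens (135 * N) :=
  level_bd w Cfsg.Agent.Lib.Helper3.U62.INV h0 hinv gens hl dl BR (by decide +kernel) hdlr hBR (by decide +kernel) (by decide +kernel)
    rt (by decide +kernel) isH (fun l h => of_decide_eq_true h) fc sc nc cc 4 5 135 79228162514264337593543950336
    (by norm_num) (by norm_num) (by decide +kernel) (by decide) chkAll clAll N hN

end Cfsg.Agent.Lib.Helper3.U62.L3
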