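import Cfsg.Agent.Lib.Helper3.U62.L4D
import Cfsg.Agent.Lib.Helper3.U62.Net

set_option autoImplicit false
set_option maxRecDepth 100000

namespace Cfsg.Agent.Lib.Helper3.U62.L4

open Cfsg.Agent.Lib.Helper11 Cfsg.Agent.Lib.Helper3

set_option maxHeartbeats 0

noncomputable def fc (i : ℕ) : ℕ := (fc0_0 i)
noncomputable def sc (i : ℕ) : ℕ := (sc0_0 i)
noncomputable def nc (i : ℕ) : ℕ := (nc0_0 i)
noncomputable def cc (i : ℕ) : ℕ := (cc0_0 i)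

def isH (l : ℕ) : Bool := decide (l ∈ [15, 16])
def gens : List ℕ := [11, 13]
def hl : List ℕ := [15, 16]
def dl : List (List ℕ × ℕ) := [([11], 12), ([13], 14), ([14, 11, 13, 11, 11], 15), ([14, 12, 13, 11, 13, 11], 16)]
def BR : List (List ℕ) := [[], [14, 11, 13, 11, 11, 15], [14, 12, 13, 11, 13, 11, 16], [11, 11, 11, 11], [13, 13, 13], [11, 13, 11, 13, 11, 13, 11, 13], [11, 14, 11, 14, 11, 14, 11, 14], [11, 14, 14, 11, 14, 14, 11, 14, 14, 11, 14, 14], [12, 12, 13, 12, 12, 13, 12, 12, 13, 12, 12, 13, 12, 12, 13, 12, 12, 13], [12, 13, 13, 12, 13, 13, 12, 13, 13, 12, 13, 13], [11, 11, 11, 13, 11, 11, 11, 13, 11, 11, 11, 13, 11, 11, 11, 13], [11, 11, 11, 14, 11, 11, 11, 14, 11, 11, 11, 14, 11, 11, 11, 14], [11, 13, 11, 14, 11, 13, 11, 14, 11, 13, 11, 14, 11, 13, 11, 14, 11, 13, 11, 14, 11, 13, 11, 14], [11, 13, 12, 13, 11, 13, 12, 13, 11, 13, 12, 13, 11, 13, 12, 13], [11, 13,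 13, 13, 11, 13, 13, 13, 11, 13, 13, 13, 11, 13, 13, 13], [11, 14, 11, 14, 11, 14, 11, 14], [11, 14, 12, 13, 11, 14, 12, 13, 11, 14, 12, 13, 11, 14, 12, 13, 11, 14, 12, 13, 11, 14, 12, 13], [11, 14, 12, 14, 11, 14, 12, 14, 11, 14, 12, 14, 11, 14, 12, 14], [12, 12, 12, 14, 12, 12, 12, 14, 12, 12, 12, 14, 12, 12, 12, 14], [12, 13, 13, 13, 12, 13, 13, 13, 12, 13, 13, 13, 12, 13, 13, 13]]
def rt : RT := (.node 14 (.node 7 (.node 3 (.node 1 (.leaf 0 0 []) (.node 2 (.leaf 3 2 [11, 11, 11, 11]) (.leaf 5 4 [11, 13, 11, 13, 11, 13, 11, 13]))) (.node 5 (.node 4 (.leaf 6 4 [11, 14, 11, 14, 11, 14, 11, 14]) (.leaf 1 5 [15, 14, 11, 13, 11, 11])) (.node 6 (.leaf 1 2 [13, 11, 11, 15, 14, 11]) (.leaf 2 2 [13, 11, 13, 11, 16, 14, 12])))) (.node 10 (.node 8 (.leaf 4 1 [13, 13, 13]) (.node 9 (.leaf 2 6 [16, 14, 12, 13, 11, 13, 11]) (.leaf 14 14 [13, 13, 11, 13, 13, 13, 11, 13, 13, 13, 11, 13,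 13, 13, 11, 13]))) (.node 12 (.node 11 (.leaf 3 1 [11, 11, 11, 11]) (.leaf 11 14 [11, 14, 11, 11, 11, 14, 11, 11, 11, 14, 11, 11, 11, 14, 11, 11])) (.node 13 (.leaf 10 3 [13, 11, 11, 11, 13, 11, 11, 11, 13, 11, 11, 11, 13, 11, 11, 11]) (.leaf 1 4 [11, 15, 14, 11, 13, 11]))))) (.node 21 (.node 17 (.node 15 (.leaf 11 15 [14, 11, 11, 11, 14, 11, 11, 11, 14, 11, 11, 11, 14, 11, 11, 11]) (.node 16 (.leaf 9 5 [13, 12, 13, 13, 12, 13, 13, 12, 13, 13, 12, 13]) (.leaf 16 9 [14, 12, 13, 11, 14, 12, 13, 11, 14, 12, 13, 11, 14, 12, 13, 11, 14, 12, 13, 11, 14, 12, 13, 11]))) (.node 19 (.node 18 (.leaf 19 10 [13, 13, 12, 13, 13, 13, 12, 13, 13, 13, 12, 13, 13, 13, 12, 13]) (.leaf 2 1 [12, 13, 11, 13, 11, 16, 14])) (.node 20 (.leaf 17 4 [11, 14, 12, 14, 11, 14, 12, 14, 11, 14, 12, 14, 11, 14, 12, 14]) (.leaf 5 3 [13, 11, 13, 11, 13, 11, 13, 11])))) (.node 24 (.node 22 (.leaf 7 1 [14, 14,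 11, 14, 14, 11, 14, 14, 11, 14, 14, 11]) (.node 23 (.leaf 12 15 [14, 11, 13, 11, 14, 11, 13, 11, 14, 11, 13, 11, 14, 11, 13, 11, 14, 11, 13, 11, 14, 11, 13, 11]) (.leaf 12 16 [11, 13, 11, 14, 11, 13, 11, 14, 11, 13, 11, 14, 11, 13, 11, 14, 11, 13, 11, 14, 11, 13, 11, 14]))) (.node 26 (.node 25 (.leaf 13 10 [12, 13, 11, 13, 12, 13, 11, 13, 12, 13, 11, 13, 12, 13, 11, 13]) (.leaf 15 4 [11, 14, 11, 14, 11, 14, 11, 14])) (.node 27 (.leaf 8 8 [13, 12, 12, 13, 12, 12, 13, 12, 12, 13, 12, 12, 13, 12, 12, 13, 12, 12]) (.leaf 18 11 [14, 12, 12, 12, 14, 12, 12, 12, 14, 12, 12, 12, 14, 12, 12, 12]))))))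

theorem b0 : allR (guardB 1 (blk fc sc rt.get Cfsg.Agent.Lib.Helper3.U62.INV isH)) 1 0 = true := by decide +kernel
theorem c0 : allR (guardB 1 (cblk fc nc cc 256 32 79228162514264337593543950336 gens)) 1 0 = true := by decide +kernel

theorem chkAll : ∀ j < 1, blk fc sc rt.get Cfsg.Agent.Lib.Helper3.U62.INV isH j = true :=
  guardB_spec (D := 1) b0 (by norm_num)

theorem clAll : ∀ jb < 1, cblk fc nc cc (256 * 1) 32 79228162514264337593543950336 gens jb = true :=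
  guardB_spec (D := 1) c0 (by norm_num)

theorem card_eq : Nat.card (lgrp (vL Cfsg.Agent.Lib.Helper3.U62.ntl Cfsg.Agent.Lib.Helper3.U62.deg) gens) = 32 * Nat.card (lgrp (vL Cfsg.Agent.Lib.Helper3.U62.ntl Cfsg.Agent.Lib.Helper3.U62.deg) hl) :=
  Cfsg.Agent.Lib.Helper3.U62.setup.level gens hl dl BR (by decide +kernel) (by decide +kernel) (by decide +kernel) (by decide +kernel)
    (by decide +kernel) rt (by decide +kernel) isH (fun l h => of_decide_eq_true h) fc sc nc cc 1 1 32 79228162514264337593543950336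
    (by norm_num) (by norm_num) (by decide +kernel) (by decide) chkAll clAll
    137 137 4 (by norm_num [Cfsg.Agent.Lib.Helper3.U62.deg]) (by norm_num [Cfsg.Agent.Lib.Helper3.U62.deg]) (by decide +kernel) (by decide +kernel)

theorem ub {M : Type*} [Group M] (w : ℕ → M) (h0 : w 0 = 1) (hinv : ∀ l, w (invL Cfsg.Agent.Lib.Helper3.U62.INV l) = (w l)⁻¹)
    (hBR : ∀ r ∈ BR, (r.map w).prod = 1)
    (hdlr : ∀ r ∈ dl.map (fun p => p.1 ++ [p.2]), (r.map w).prod = 1) (N : ℕ) (hN : Bd w hl N) :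
    Bd w gens (32 * N) :=
  level_bd w Cfsg.Agent.Lib.Helper3.U62.INV h0 hinv gens hl dl BR (by decide +kernel) hdlr hBR (by decide +kernel) (by decide +kernel)
    rt (by decide +kernel) isH (fun l h => of_decide_eq_true h) fc sc nc cc 1 1 32 79228162514264337593543950336
    (by norm_num) (by norm_num) (by decide +kernel) (by decide) chkAll clAll N hN

end Cfsg.Agent.Lib.Helper3.U62.L4
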